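import Cfsg.Agent.H539.Lim.DefsZ
set_option linter.all false

/-!
# Coefficient systems: pullbacks, constant systems, the module at a subgroup (helper425, for S5242)
-/

set_option autoImplicit false

namespace Cfsg.Agent.H425.Lim

open MulAction Cfsg.Agent.H539.Lim

universe u v w

theorem tau_congr {G : Type u} [Group G] (C : Coef.{u, w} G) {g g' : G} {P Q : Subgroup G} (e : g = g')
    (h : ∀ u ∈ P, g * u * g⁻¹ ∈ Q) (h' : ∀ u ∈ P, g' * u * g'⁻¹ ∈ Q) (m : C.M Q) :
    C.τ g P Q h m = C.τ g' P Q h' m := by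
  subst e; rfl

/-- pullback of a coefficient system along a homomorphism -/
def pull {G H : Type u} [Group G] [Group H] (φ : G →* H) (C : Coef.{u, w} H) : Coef.{u, w} G where
  M P := C.M (P.map φ)
  acg _ := C.acg _
  τ g P Q h := C.τ (φ g) (P.map φ) (Q.map φ) (by
    rintro _ ⟨u, hu, rfl⟩
    exact ⟨g * u * g⁻¹, h u hu, by simp⟩)
  τ_comp g h P Q R h1 h2 h3 m := by
    rw [C.τ_comp (φ g) (φ h) (P.map φ) (Q.map φ) (R.map φ) _ _ (by
      rintro _ ⟨u, hu, rfl⟩
      exact ⟨h * g * u * (h * g)⁻¹, h3 u hu, by simp [mul_assoc]⟩)]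
    exact tau_congr C (map_mul φ h g).symm _ _ m
  τ_inner P u hu h m := C.τ_inner (P.map φ) (φ u) (Subgroup.mem_map_of_mem φ hu) _ m

/-- the constant coefficient system -/
def cst (G : Type u) [Group G] (D : Type w) [AddCommGroup D] : Coef.{u, w} G where
  M _ := D
  acg _ := inferInstance
  τ _ _ _ _ := AddMonoidHom.id D
  τ_comp _ _ _ _ _ _ _ _ _ := rfl
  τ_inner _ _ _ _ _ := rfl

/-- `D` with the trivial action -/
def Tr (_G : Type u) (D : Type w) : Type w := D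

instance (G : Type u) (D : Type w) [i : AddCommGroup D] : AddCommGroup (Tr G D) := i

instance (G : Type u) [Group G] (D : Type w) [AddCommGroup D] : DistribMulAction G (Tr G D) where
  smul _ d := d
  one_smul _ := rfl
  mul_smul _ _ _ := rfl
  smul_zero _ := rfl
  smul_add _ _ _ := rfl

theorem Tr.smul_eq (G : Type u) [Group G] (D : Type w) [AddCommGroup D] (g : G) (d : Tr G D) : g • d = d := rfl

/-- the module `C.M P` of the normalizer of `P` -/
def Loc {G : Type u} [Group G] (C : Coef.{u, w} G) (P : Subgroup G) : Type w := C.M P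

instance {G : Type u} [Group G] (C : Coef.{u, w} G) (P : Subgroup G) : AddCommGroup (Loc C P) := C.acg P

theorem conj_mem {G : Type u} [Group G] {P : Subgroup G} (g : ↥(Nz P)) : ∀ u ∈ P, (g : G)⁻¹ * u * (g : G)⁻¹⁻¹ ∈ P := by
  intro u hu
  have := (Subgroup.mem_normalizer_iff.mp (Subgroup.inv_mem _ g.2) u).mp hu
  simpa using this

/-- the action of the normalizer of `P` on `C.M P` -/
def locMap {G : Type u} [Group G] (C : Coef.{u, w} G) (P : Subgroup G) (g : ↥(Nz P)) : C.M P →+ C.M P :=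
  C.τ (g : G)⁻¹ P P (conj_mem g)

theorem locMap_one {G : Type u} [Group G] (C : Coef.{u, w} G) (P : Subgroup G) (m : C.M P) :
    locMap C P 1 m = m := by
  rw [locMap, tau_congr C (g' := 1) (by simp) _ (by intro u hu; simpa using hu)]
  exact C.τ_inner P 1 P.one_mem _ m

theorem locMap_mul {G : Type u} [Group G] (C : Coef.{u, w} G) (P : Subgroup G) (a b : ↥(Nz P)) (m : C.M P) :
    locMap C P (a * b) m = locMap C P a (locMap C P b m) := by
  rw [locMap, locMap, locMap, C.τ_comp (a : G)⁻¹ (b : G)⁻¹ P P P _ _ (by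
      intro u hu
      have := conj_mem (a * b) u hu
      simpa using this)]
  exact tau_congr C (by simp) _ _ m

instance {G : Type u} [Group G] (C : Coef.{u, w} G) (P : Subgroup G) : DistribMulAction ↥(Nz P) (Loc C P) where
  smul g m := locMap C P g m
  one_smul m := locMap_one C P m
  mul_smul a b m := locMap_mul C P a b m
  smul_zero g := map_zero (locMap C P g)
  smul_add g a b := map_add (locMap C P g) a b

theorem Loc.smul_eq {G : Type u} [Group G] (C : Coef.{u, w} G) (P : Subgroup G) (g : ↥(Nz P)) (m : Loc C P) :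
    g • m = C.τ (g : G)⁻¹ P P (conj_mem g) m := rfl

/-- transport along an equality of subgroups -/
def castM {G : Type u} [Group G] (C : Coef.{u, w} G) {P P' : Subgroup G} (e : P = P') : C.M P ≃+ C.M P' := by
  subst e; exact AddEquiv.refl _

theorem castM_tau {G : Type u} [Group G] (C : Coef.{u, w} G) {P P' Q Q' : Subgroup G} (e : P = P') (e' : Q = Q') (g : G)
    (h : ∀ u ∈ P, g * u * g⁻¹ ∈ Q) (h' : ∀ u ∈ P', g * u * g⁻¹ ∈ Q') (m : C.M Q) :
    castM C e (C.τ g P Q h m) = C.τ g P' Q' h' (castM C e' m) := by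
  subst e; subst e'; rfl

/-- the elements of `N(P)` centralizing `P` modulo the central subgroup `A` -/
def cenMod {G : Type u} [Group G] (A : Subgroup G) (P : Subgroup G) :
    Subgroup ↥(Nz P) where
  carrier := {c | ∀ v ∈ P, (c : G) * v * (c : G)⁻¹ * v⁻¹ ∈ A}
  one_mem' := fun v _ => by simp
  mul_mem' := by
    intro a b ha hb v hv
    have h1 : (b : G) * v * (b : G)⁻¹ ∈ P := (Subgroup.mem_normalizer_iff.mp b.2 v).mp hv
    have h2 := ha _ h1
    have h3 := A.mul_mem h2 (hb v hv)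
    have e : ((a * b : ↥(Nz P)) : G) * v * ((a * b : ↥(Nz P)) : G)⁻¹ * v⁻¹ =
        (a : G) * ((b : G) * v * (b : G)⁻¹) * (a : G)⁻¹ * ((b : G) * v * (b : G)⁻¹)⁻¹ *
          ((b : G) * v * (b : G)⁻¹ * v⁻¹) := by
      rw [Subgroup.coe_mul]; group
    rw [e]; exact h3
  inv_mem' := by
    intro a ha v hv
    have h1 : (a : G)⁻¹ * v * (a : G) ∈ P := by
      have := (Subgroup.mem_normalizer_iff.mp (Subgroup.inv_mem _ a.2) v).mp hv
      simpa using this
    have h2 := A.inv_mem (ha _ h1)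
    have e : ((a⁻¹ : ↥(Nz P)) : G) * v * ((a⁻¹ : ↥(Nz P)) : G)⁻¹ * v⁻¹ =
        ((a : G) * ((a : G)⁻¹ * v * (a : G)) * (a : G)⁻¹ * ((a : G)⁻¹ * v * (a : G))⁻¹)⁻¹ := by
      rw [Subgroup.coe_inv]; group
    rw [e]; exact h2

theorem cenMod_normal {G : Type u} [Group G] (A : Subgroup G) (hA : A ≤ Subgroup.center G) (P : Subgroup G) :
    (cenMod A P).Normal := by
  refine ⟨fun c hc g v hv => ?_⟩
  have h1 : (g : G)⁻¹ * v * (g : G) ∈ P := by
    have := (Subgroup.mem_normalizer_iff.mp (Subgroup.inv_mem _ g.2) v).mp hv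
    simpa using this
  have h2 := hc _ h1
  have h3 := Subgroup.mem_center_iff.mp (hA h2) (g : G)
  have e : ((g * c * g⁻¹ : ↥(Nz P)) : G) * v * ((g * c * g⁻¹ : ↥(Nz P)) : G)⁻¹ * v⁻¹ =
      (g : G) * ((c : G) * ((g : G)⁻¹ * v * (g : G)) * (c : G)⁻¹ * ((g : G)⁻¹ * v * (g : G))⁻¹) * (g : G)⁻¹ := by
    simp only [Subgroup.coe_mul, Subgroup.coe_inv]; group
  rw [e, h3]
  simpa using h2

theorem mapNz_conj {G : Type u} [Group G] {P : Subgroup G} (g : ↥(Nz P)) {Q : Subgroup ↥(Nz P)}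
    (hQ : Q.map (Nz P).subtype = P) : (cj g Q).map (Nz P).subtype = P := by
  have e : (cj g Q).map (Nz P).subtype = cj (g : G) (Q.map (Nz P).subtype) := by
    simp only [cj, Subgroup.map_map]
    congr 1
  rw [e, hQ]
  apply le_antisymm
  · rintro _ ⟨v, hv, rfl⟩
    exact (Subgroup.mem_normalizer_iff.mp g.2 v).mp hv
  · intro v hv
    refine ⟨(g : G)⁻¹ * v * g, ?_, ?_⟩
    · have := (Subgroup.mem_normalizer_iff.mp (Subgroup.inv_mem _ g.2) v).mp hv
      simpa using this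
    · show (g : G) * ((g : G)⁻¹ * v * g) * (g : G)⁻¹ = v
      group

/-- the `p`-subgroups containing `A` -/
def VV (p : ℕ) {G : Type u} [Group G] (A : Subgroup G) : Set (Subgroup G) := {P | A ≤ P ∧ IsPGroup p P}

/-- some `p`-element outside `P` centralizes `P` modulo `A` -/
def NN (p : ℕ) {G : Type u} [Group G] (A : Subgroup G) : Set (Subgroup G) :=
  {P | ∃ u : G, u ∉ P ∧ (∃ k : ℕ, u ^ (p ^ k) = 1) ∧ ∀ v ∈ P, u * v * u⁻¹ * v⁻¹ ∈ A}

/-- the `p`-subgroups containing `A`, centric modulo `A` -/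
abbrev UU (p : ℕ) {G : Type u} [Group G] (A : Subgroup G) : Set (Subgroup G) := VV p A \ NN p A

theorem cj_le {G : Type u} [Group G] {A : Subgroup G} (hA : A ≤ Subgroup.center G) {P : Subgroup G} (h : A ≤ P)
    (g : G) : A ≤ cj g P := by
  intro a ha
  refine ⟨a, h ha, ?_⟩
  have := Subgroup.mem_center_iff.mp (hA ha) g
  show g * a * g⁻¹ = a
  rw [this]; group

theorem isPGroup_cj {p : ℕ} {G : Type u} [Group G] {P : Subgroup G} (h : IsPGroup p P) (g : G) :
    IsPGroup p (cj g P) := h.map _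

theorem VV_ord (p : ℕ) {G : Type u} [Group G] (A : Subgroup G) : (VV p A).OrdConnected :=
  ⟨fun _ hP _ hQ _ hR => ⟨hP.1.trans hR.1, hQ.2.to_le hR.2⟩⟩

theorem VV_inv (p : ℕ) {G : Type u} [Group G] {A : Subgroup G} (hA : A ≤ Subgroup.center G) : IsInv (VV p A) :=
  fun g _ hP => ⟨cj_le hA hP.1 g, isPGroup_cj hP.2 g⟩

theorem NN_lower (p : ℕ) {G : Type u} [Group G] (A : Subgroup G) {P Q : Subgroup G} (h : P ≤ Q) (hQ : Q ∈ NN p A) :
    P ∈ NN p A := by
  obtain ⟨u, h1, h2, h3⟩ := hQ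
  exact ⟨u, fun hu => h1 (h hu), h2, fun v hv => h3 v (h hv)⟩

theorem NNc_upper (p : ℕ) {G : Type u} [Group G] (A : Subgroup G) : IsUpperSet (NN p A)ᶜ :=
  fun _ _ h hP hQ => hP (NN_lower p A h hQ)

theorem NN_inv (p : ℕ) {G : Type u} [Group G] {A : Subgroup G} (hA : A ≤ Subgroup.center G) : IsInv (NN p A) := by
  rintro g P ⟨u, h1, ⟨k, hk⟩, h3⟩
  refine ⟨g * u * g⁻¹, ?_, ⟨k, ?_⟩, ?_⟩
  · rintro ⟨w, hw, hw'⟩
    have : w = u := by
      have e : g * w * g⁻¹ = g * u * g⁻¹ := hw'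
      simpa using e
    exact h1 (this ▸ hw)
  · rw [conj_pow, hk]; simp
  · rintro _ ⟨v, hv, rfl⟩
    have h4 := h3 v hv
    have h5 := Subgroup.mem_center_iff.mp (hA h4) g
    have e : g * u * g⁻¹ * (MulAut.conj g).toMonoidHom v * (g * u * g⁻¹)⁻¹ * ((MulAut.conj g).toMonoidHom v)⁻¹ =
        g * (u * v * u⁻¹ * v⁻¹) * g⁻¹ := by
      show g * u * g⁻¹ * (g * v * g⁻¹) * (g * u * g⁻¹)⁻¹ * (g * v * g⁻¹)⁻¹ = _
      group
    rw [e, h5]
    simpa using h4

theorem inv_compl {G : Type u} [Group G] {V : Set (Subgroup G)} (h : IsInv V) : IsInv Vᶜ := by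
  intro g P hP hQ
  apply hP
  have := h g⁻¹ _ hQ
  have e : cj g⁻¹ (cj g P) = P := by
    simp only [cj, Subgroup.map_map]
    convert Subgroup.map_id P
    ext x
    simp [mul_assoc]
  rwa [e] at this

theorem UU_ord (p : ℕ) {G : Type u} [Group G] (A : Subgroup G) : (UU p A).OrdConnected :=
  ⟨fun _ hP _ hQ _ hR => ⟨(VV_ord p A).out hP.1 hQ.1 hR, fun h => hP.2 (NN_lower p A hR.1 h)⟩⟩

theorem UU_inv (p : ℕ) {G : Type u} [Group G] {A : Subgroup G} (hA : A ≤ Subgroup.center G) : IsInv (UU p A) :=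
  fun g P hP => ⟨VV_inv p hA g P hP.1, inv_compl (NN_inv p hA) g P hP.2⟩

/-- the stabilizers of the nonempty tuples -/
theorem st_mem_VV {p : ℕ} {G : Type u} [Group G] {Ω : Type v} [MulAction G Ω] (hΩ : PSet p G Ω) {A : Subgroup G}
    (hAst : ∀ x : Ω, A ≤ stabilizer G x) {k : ℕ} (x : Fin (k + 1) → Ω) : st G x ∈ VV p A := by
  refine ⟨fun a ha => ?_, (hΩ.pgroup (x 0)).to_le ?_⟩
  · rw [mem_stabilizer_iff]
    funext i
    exact hAst (x i) ha
  · intro g hg
    rw [mem_stabilizer_iff] at hg ⊢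
    exact congrFun hg 0

theorem van_congr {G : Type u} [Group G] {Ω : Type v} [MulAction G Ω] {D : Type w} [AddCommGroup D]
    [DistribMulAction G D] {V V' : Set (Subgroup G)}
    (h : ∀ (k : ℕ) (x : Fin (k + 1) → Ω), st G x ∈ V ↔ st G x ∈ V') {n : ℕ} (hv : Van G Ω D V n) :
    Van G Ω D V' n := by
  cases n with
  | zero =>
    intro c hc hcc
    exact hv c ⟨hc.smul, fun x hx => hc.supp x (fun h' => hx ((h _ x).mpr h'))⟩ (fun x hx => hcc x ((h _ x).mp hx))
  | succ n =>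
    intro c hc hcc
    obtain ⟨b, hb, hb'⟩ := hv c ⟨hc.smul, fun x hx => hc.supp x (fun h' => hx ((h _ x).mpr h'))⟩
      (fun x hx => hcc x ((h _ x).mp hx))
    exact ⟨b, ⟨hb.smul, fun x hx => hb.supp x (fun h' => hx ((h _ x).mp h'))⟩, fun x hx => hb' x ((h _ x).mpr hx)⟩

theorem cvan_congr {G : Type u} [Group G] {Ω : Type v} [MulAction G Ω] (C : Coef.{u, w} G) {V V' : Set (Subgroup G)}
    (h : ∀ (k : ℕ) (x : Fin (k + 1) → Ω), st G x ∈ V ↔ st G x ∈ V') {n : ℕ} (hv : C.Van Ω V n) :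
    C.Van Ω V' n := by
  cases n with
  | zero =>
    intro c hc hcc
    exact hv c ⟨hc.equiv, fun x hx => hc.supp x (fun h' => hx ((h _ x).mpr h'))⟩ (fun x hx => hcc x ((h _ x).mp hx))
  | succ n =>
    intro c hc hcc
    obtain ⟨b, hb, hb'⟩ := hv c ⟨hc.equiv, fun x hx => hc.supp x (fun h' => hx ((h _ x).mpr h'))⟩
      (fun x hx => hcc x ((h _ x).mp hx))
    exact ⟨b, ⟨hb.equiv, fun x hx => hb.supp x (fun h' => hx ((h _ x).mp h'))⟩, fun x hx => hb' x ((h _ x).mpr hx)⟩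

end Cfsg.Agent.H425.Lim
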