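import Cfsg.Agent.H539.Lim.DefsZ
import Cfsg.Agent.H539.Lim.Defs
import Cfsg.Agent.H425.Lim.Pull
set_option linter.all false

-- part: H119/Lim/Sys
section
/-!
# S5242, H2a: coefficient systems over a central extension `L` of `L ⧸ A` (helper119)

* `pull φ C` : pull back along a homomorphism; `sub C S hS` : subsystem; `const G D` : constant system;
* `KS A` : `P ↦ {u ↦ c u c⁻¹ u⁻¹ | c ∈ L, [c,P] ≤ A}`;
* `ZG p A` : `P ↦ Z(P A / A)` (centric `P A / A`); `NS p A` : the image of `Z(P)`;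
* `UU p A` : `A ≤ P`, `P` a `p`-group, `P/A` centric; `NN p A` : `A ≤ P`, `P` a `p`-group, `∃ p`-element `u ∉ P`, `[u,P] ≤ A`;
* `toK`, `incN`, `ZtoN`, `AtoZ` : the homomorphisms; exactness lemmas.
-/

set_option autoImplicit false

namespace Cfsg.Agent.H119.Lim

open MulAction Cfsg.Agent.H539.Lim

universe u v w

/-! ### general constructions -/

section gen

variable {G : Type u} [Group G]

/-- pull back along a homomorphism -/
def pull {H : Type u} [Group H] (φ : G →* H) (C : Coef.{u, v} H) : Coef.{u, v} G where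
  M P := C.M (P.map φ)
  acg _ := C.acg _
  τ g P Q h := C.τ (φ g) (P.map φ) (Q.map φ) (by
    rintro _ ⟨w, hw, rfl⟩
    exact ⟨g * w * g⁻¹, h w hw, by simp⟩)
  τ_comp g h P Q R h1 h2 h3 m := by
    have h4 : ∀ u ∈ P.map φ, (φ h * φ g) * u * (φ h * φ g)⁻¹ ∈ R.map φ := by
      rintro _ ⟨w, hw, rfl⟩
      exact ⟨h * g * w * (h * g)⁻¹, h3 w hw, by simp⟩
    refine (C.τ_comp (φ g) (φ h) _ _ _ _ _ h4 m).trans ?_
    congr 1
    simp only [map_mul]
  τ_inner P u hu h m := C.τ_inner (P.map φ) (φ u) ⟨u, hu, rfl⟩ _ m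

/-- subsystem -/
def sub (C : Coef.{u, v} G) (S : ∀ P, AddSubgroup (C.M P))
    (hS : ∀ (g : G) (P Q : Subgroup G) (h : ∀ u ∈ P, g * u * g⁻¹ ∈ Q), ∀ m ∈ S Q, C.τ g P Q h m ∈ S P) :
    Coef.{u, v} G where
  M P := ↥(S P)
  acg _ := inferInstance
  τ g P Q h := ((C.τ g P Q h).comp (S Q).subtype).codRestrict (S P) (fun m => hS g P Q h m m.2)
  τ_comp g h P Q R h1 h2 h3 m := Subtype.ext (C.τ_comp g h P Q R h1 h2 h3 m)
  τ_inner P u hu h m := Subtype.ext (C.τ_inner P u hu h m)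

/-- constant system -/
def const (G : Type u) [Group G] (D : Type v) [AddCommGroup D] : Coef.{u, v} G where
  M _ := D
  acg _ := inferInstance
  τ _ _ _ _ := AddMonoidHom.id D
  τ_comp _ _ _ _ _ _ _ _ _ := rfl
  τ_inner _ _ _ _ _ := rfl

end gen

/-! ### the commutator maps -/

section L

variable {L : Type u} [Group L]

/-- `[c, u]` -/
def kc (c u : L) : L := c * u * c⁻¹ * u⁻¹

theorem kc_mul_left {c d u : L} (h : kc d u ∈ Subgroup.center L) : kc (c * d) u = kc c u * kc d u := by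
  have h1 := Subgroup.mem_center_iff.1 h
  have e1 : kc (c * d) u = c * kc d u * (u * c⁻¹ * u⁻¹) := by unfold kc; group
  rw [e1, h1 c, mul_assoc, ← h1]
  unfold kc; group

theorem kc_mul_right {c u w : L} (h : kc c w ∈ Subgroup.center L) : kc c (u * w) = kc c u * kc c w := by
  have h1 := Subgroup.mem_center_iff.1 h
  have e1 : kc c (u * w) = c * u * c⁻¹ * kc c w * u⁻¹ := by unfold kc; group
  rw [e1, mul_assoc _ (kc c w), ← h1 u⁻¹, ← mul_assoc]
  unfold kc; group

theorem kc_conj (g c u : L) : kc (g⁻¹ * c * g) u = g⁻¹ * kc c (g * u * g⁻¹) * g := by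
  unfold kc; group

theorem kc_eq_one {c u : L} : kc c u = 1 ↔ c * u = u * c := by
  unfold kc
  rw [mul_inv_eq_one, mul_inv_eq_iff_eq_mul]

theorem kc_one_left (u : L) : kc 1 u = 1 := by unfold kc; group

theorem cadd_comm (a b : Additive ↥(Subgroup.center L)) : a + b = b + a :=
  Additive.toMul.injective (Subtype.ext (Subgroup.mem_center_iff.1 (Additive.toMul b).2 _))

/-- `K(P)` : the homomorphisms `[c,·]` -/
def KP (A P : Subgroup L) : AddSubgroup (↥P → Additive ↥(Subgroup.center L)) where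
  carrier := {f | ∃ c : L, (∀ u ∈ P, kc c u ∈ A) ∧ ∀ u : P, (((f u).toMul : ↥(Subgroup.center L)) : L) = kc c u}
  zero_mem' := ⟨1, fun u _ => by rw [kc_one_left]; exact A.one_mem, fun u => by rw [kc_one_left]; rfl⟩
  add_mem' := by
    rintro f g ⟨c, hc, hf⟩ ⟨d, hd, hg⟩
    have h1 : ∀ u : P, kc (c * d) u = kc c u * kc d u := fun u =>
      kc_mul_left (by rw [← hg u]; exact (g u).toMul.2)
    refine ⟨c * d, fun u hu => ?_, fun u => ?_⟩
    · rw [h1 ⟨u, hu⟩]
      exact A.mul_mem (hc u hu) (hd u hu)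
    · rw [h1 u, ← hf u, ← hg u]
      rfl
  neg_mem' := by
    rintro f ⟨c, hc, hf⟩
    have h1 : ∀ u : P, kc c⁻¹ u = (kc c u)⁻¹ := fun u => by
      have h2 : kc c u ∈ Subgroup.center L := by rw [← hf u]; exact (f u).toMul.2
      have h3 : kc (c⁻¹ * c) u = kc c⁻¹ u * kc c u := kc_mul_left h2
      rw [inv_mul_cancel, kc_one_left] at h3
      exact eq_inv_of_mul_eq_one_left h3.symm
    refine ⟨c⁻¹, fun u hu => ?_, fun u => ?_⟩
    · rw [h1 ⟨u, hu⟩]
      exact A.inv_mem (hc u hu)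
    · rw [h1 u, ← hf u]
      rfl

theorem KP_mul {A P : Subgroup L} {f : ↥P → Additive ↥(Subgroup.center L)} (hf : f ∈ KP A P) (u w : P) :
    f (u * w) = f u + f w := by
  obtain ⟨c, -, hf⟩ := hf
  apply Additive.toMul.injective
  apply Subtype.ext
  rw [hf, Subgroup.coe_mul, kc_mul_right (by rw [← hf w]; exact (f w).toMul.2), ← hf u, ← hf w]
  rfl

/-- the values at elements of `A ⊓ Z(L)` vanish -/
theorem KP_central {A P : Subgroup L} {f : ↥P → Additive ↥(Subgroup.center L)} (hf : f ∈ KP A P) (u : P)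
    (hu : (u : L) ∈ Subgroup.center L) : f u = 0 := by
  obtain ⟨c, -, hf⟩ := hf
  apply Additive.toMul.injective
  apply Subtype.ext
  rw [hf, kc_eq_one.2 (Subgroup.mem_center_iff.1 hu c)]
  rfl

instance instKP (A P : Subgroup L) : AddCommGroup ↥(KP A P) :=
  { (inferInstance : AddGroup ↥(KP A P)) with
    add_comm := fun a b => Subtype.ext (funext fun u => cadd_comm (a.1 u) (b.1 u)) }

/-- the system `K` -/
def KS (A : Subgroup L) : Coef.{u, u} L where
  M P := ↥(KP A P)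
  acg _ := instKP A _
  τ g P Q h :=
    { toFun := fun f => ⟨fun u => f.1 ⟨g * u * g⁻¹, h u u.2⟩, by
        obtain ⟨c, hc, hf⟩ := f.2
        have h1 : ∀ u : P, kc (g⁻¹ * c * g) u = kc c (g * u * g⁻¹) := fun u => by
          have h2 : kc c (g * u * g⁻¹) ∈ Subgroup.center L := by
            have := hf ⟨g * u * g⁻¹, h u u.2⟩
            rw [← this]
            exact Subtype.property _
          rw [kc_conj, Subgroup.mem_center_iff.1 h2 g⁻¹, mul_assoc, inv_mul_cancel, mul_one]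
        refine ⟨g⁻¹ * c * g, fun u hu => ?_, fun u => ?_⟩
        · rw [h1 ⟨u, hu⟩]
          exact hc _ (h u hu)
        · rw [h1 u]
          exact hf _⟩
      map_zero' := rfl
      map_add' := fun _ _ => rfl }
  τ_comp g h P Q R h1 h2 h3 m := by
    apply Subtype.ext
    funext u
    show m.1 ⟨h * (g * u * g⁻¹) * h⁻¹, _⟩ = m.1 ⟨h * g * u * (h * g)⁻¹, _⟩
    congr 2
    group
  τ_inner P u hu h m := by
    apply Subtype.ext
    funext w
    show m.1 ⟨u * w * u⁻¹, _⟩ = m.1 w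
    have e : (⟨u * w * u⁻¹, h w w.2⟩ : P) = ⟨u, hu⟩ * w * ⟨u, hu⟩⁻¹ := rfl
    rw [e, KP_mul m.2, KP_mul m.2]
    have h2 : m.1 (⟨u, hu⟩ * ⟨u, hu⟩⁻¹) = 0 := by
      rw [mul_inv_cancel]
      exact KP_central m.2 1 (Subgroup.one_mem _)
    rw [KP_mul m.2] at h2
    have h3 : m.1 ⟨u, hu⟩ + m.1 w + m.1 ⟨u, hu⟩⁻¹ = m.1 w + (m.1 ⟨u, hu⟩ + m.1 ⟨u, hu⟩⁻¹) := by
      rw [← add_assoc, cadd_comm (m.1 ⟨u, hu⟩) (m.1 w)]
    rw [h3, h2, add_zero]

end L

end Cfsg.Agent.H119.Lim
end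

-- part: H119/Lim/Ex
section
/-!
# S5242, H2a: the sets `U'`, `N'` and the two short exact sequences (helper119)
-/

set_option autoImplicit false

namespace Cfsg.Agent.H119.Lim

open MulAction Cfsg.Agent.H539.Lim

universe u v w

variable {L : Type u} [Group L]

/-! ### the sets -/

/-- the `p`-subgroups containing `A` -/
def AllP (p : ℕ) (A : Subgroup L) : Set (Subgroup L) := {P | A ≤ P ∧ IsPGroup p P}

/-- `P` contains all `p`-elements `u` with `[u,P] ≤ A` -/
def CM (p : ℕ) (A : Subgroup L) : Set (Subgroup L) :=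
  {P | ∀ u : L, (∀ w ∈ P, kc u w ∈ A) → (∃ k : ℕ, u ^ (p ^ k) = 1) → u ∈ P}

theorem AllP_ordConnected (p : ℕ) (A : Subgroup L) : (AllP p A).OrdConnected :=
  ⟨fun _ h1 _ h2 _ h3 => ⟨h1.1.trans h3.1, h2.2.to_le h3.2⟩⟩

theorem CM_isUpperSet (p : ℕ) (A : Subgroup L) : IsUpperSet (CM p A) :=
  fun _ _ h1 h2 u h3 h4 => h1 (h2 u (fun w hw => h3 w (h1 hw)) h4)

theorem cj_mem {g : L} {P : Subgroup L} {u : L} : u ∈ cj g P ↔ g⁻¹ * u * g ∈ P := by
  constructor
  · rintro ⟨w, hw, rfl⟩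
    simpa [mul_assoc] using hw
  · intro h
    exact ⟨_, h, by simp [mul_assoc]⟩

theorem isPGroup_cj {p : ℕ} (g : L) {P : Subgroup L} (h : IsPGroup p P) : IsPGroup p (cj g P) :=
  h.map _

section
variable {A : Subgroup L} (hA : A ≤ Subgroup.center L)
include hA

theorem le_cj (g : L) {P : Subgroup L} (h : A ≤ P) : A ≤ cj g P := fun a ha => by
  rw [cj_mem, mul_assoc, ← Subgroup.mem_center_iff.1 (hA ha) g, ← mul_assoc, inv_mul_cancel, one_mul]
  exact h ha

theorem conj_mem_A {g a : L} (h : g⁻¹ * a * g ∈ A) : a ∈ A := by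
  have h1 := Subgroup.mem_center_iff.1 (hA h) g
  have h2 : a = g⁻¹ * a * g := by
    calc a = g * (g⁻¹ * a * g) * g⁻¹ := by group
      _ = g⁻¹ * a * g := by rw [h1, mul_assoc, mul_inv_cancel, mul_one]
  rw [h2]
  exact h

theorem conj_mem_A' {g a : L} (h : a ∈ A) : g⁻¹ * a * g ∈ A := by
  rw [mul_assoc, ← Subgroup.mem_center_iff.1 (hA h) g, ← mul_assoc, inv_mul_cancel, one_mul]
  exact h

theorem AllP_isInv (p : ℕ) : IsInv (AllP p A) := fun g _ h => ⟨le_cj hA g h.1, isPGroup_cj g h.2⟩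

theorem CM_isInv (p : ℕ) : IsInv (CM p A) := fun g P h u h1 h2 => by
  rw [cj_mem]
  refine h _ (fun w hw => ?_) ?_
  · rw [kc_conj]
    exact conj_mem_A' hA (h1 _ (cj_mem.2 (by simpa [mul_assoc] using hw)))
  · obtain ⟨k, hk⟩ := h2
    refine ⟨k, ?_⟩
    have := conj_pow (a := g⁻¹) (b := u) (i := p ^ k)
    rw [show g⁻¹ * u * g = g⁻¹ * u * g⁻¹⁻¹ by simp, this, hk]
    simp

theorem normal_of_le : A.Normal := ⟨fun a ha g => by
  rw [Subgroup.mem_center_iff.1 (hA ha) g, mul_assoc, mul_inv_cancel, mul_one]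
  exact ha⟩

/-- `[z,·]` depends only on the class of `z` -/
theorem kc_lift {z z' : L} (h : z⁻¹ * z' ∈ A) (u : L) : kc z' u = kc z u := by
  have e : z' = z * (z⁻¹ * z') := by group
  have h1 : kc (z⁻¹ * z') u = 1 := kc_eq_one.2 (Subgroup.mem_center_iff.1 (hA h) u).symm
  rw [e, kc_mul_left (by rw [h1]; exact Subgroup.one_mem _), h1, mul_one]

end

/-- the condition in terms of the quotient -/
theorem mem_CM_iff {p : ℕ} {A P : Subgroup L} [A.Normal] (hAp : IsPGroup p A) (hAP : A ≤ P) :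
    P ∈ CM p A ↔ Centric p (P.map (QuotientGroup.mk' A)) := by
  have hmem : ∀ u : L, (u : L ⧸ A) ∈ P.map (QuotientGroup.mk' A) ↔ u ∈ P := by
    intro u
    constructor
    · rintro ⟨w, hw, h⟩
      have h1 : w⁻¹ * u ∈ A := QuotientGroup.eq.1 h
      have := P.mul_mem hw (hAP h1)
      simpa using this
    · exact fun h => ⟨u, h, rfl⟩
  have hcomm : ∀ u w : L, kc u w ∈ A ↔ (u : L ⧸ A) * (w : L ⧸ A) = (w : L ⧸ A) * (u : L ⧸ A) := by
    intro u w
    rw [← QuotientGroup.eq_one_iff]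
    show ((u : L ⧸ A) * w * (u : L ⧸ A)⁻¹ * (w : L ⧸ A)⁻¹) = 1 ↔ _
    rw [mul_inv_eq_one, mul_inv_eq_iff_eq_mul]
  constructor
  · intro h v h1 h2
    obtain ⟨u, rfl⟩ := QuotientGroup.mk_surjective v
    obtain ⟨k, hk⟩ := h2
    rw [hmem]
    refine h u (fun w hw => (hcomm u w).2 (h1 _ ⟨w, hw, rfl⟩)) ?_
    rw [← QuotientGroup.mk_pow, QuotientGroup.eq_one_iff] at hk
    obtain ⟨l, hl⟩ := hAp ⟨_, hk⟩
    refine ⟨k + l, ?_⟩
    rw [pow_add, pow_mul]
    exact congrArg Subtype.val hl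
  · intro h u h1 h2
    obtain ⟨k, hk⟩ := h2
    rw [← hmem]
    refine h _ ?_ ⟨k, by rw [← QuotientGroup.mk_pow, hk]; rfl⟩
    rintro _ ⟨w, hw, rfl⟩
    exact (hcomm u w).1 (h1 w hw)

theorem AllP_map {p : ℕ} {A P : Subgroup L} [A.Normal] (hP : P ∈ AllP p A) :
    IsPGroup p (P.map (QuotientGroup.mk' A)) := hP.2.map _

theorem centric_of_CM {p : ℕ} {A P : Subgroup L} (h : P ∈ CM p A) : Centric p P := fun u h1 h2 =>
  h u (fun w hw => by rw [kc_eq_one.2 (h1 w hw)]; exact A.one_mem) h2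

/-! ### the systems `ZG`, `NS`, constant `A` -/

/-- `P ↦ Z(P/A)` (centric `P/A`) -/
noncomputable def ZG (p : ℕ) (A : Subgroup L) [A.Normal] : Coef.{u, u} L :=
  pull (QuotientGroup.mk' A) (Coef.Z p (L ⧸ A))

/-- the classes with a lift centralizing `P` -/
def NSub (p : ℕ) (A : Subgroup L) [A.Normal] (P : Subgroup L) : AddSubgroup ((ZG p A).M P) where
  carrier := {m | ∃ z : L, (z : L ⧸ A) = ((Additive.toMul (α := ↥(zc p (P.map (QuotientGroup.mk' A)))) m :
    ↥(zc p (P.map (QuotientGroup.mk' A)))) : L ⧸ A) ∧ ∀ u ∈ P, z * u = u * z}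
  zero_mem' := ⟨1, rfl, fun u _ => by simp⟩
  add_mem' := by
    rintro a b ⟨z, hz, hz'⟩ ⟨w, hw, hw'⟩
    refine ⟨z * w, ?_, fun u hu => by rw [mul_assoc, hw' u hu, ← mul_assoc, hz' u hu, mul_assoc]⟩
    rw [QuotientGroup.mk_mul, hz, hw]
    rfl
  neg_mem' := by
    rintro a ⟨z, hz, hz'⟩
    refine ⟨z⁻¹, ?_, fun u hu => ?_⟩
    · rw [QuotientGroup.mk_inv, hz]
      rfl
    · have := hz' u hu
      calc z⁻¹ * u = z⁻¹ * (u * z) * z⁻¹ := by group
        _ = z⁻¹ * (z * u) * z⁻¹ := by rw [this]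
        _ = u * z⁻¹ := by group

/-- `P ↦` image of `Z(P)` -/
noncomputable def NS (p : ℕ) (A : Subgroup L) [A.Normal] : Coef.{u, u} L :=
  sub (ZG p A) (NSub p A) (by
    classical
    rintro g P Q h m ⟨z, hz, hz'⟩
    by_cases hP : Centric p (P.map (QuotientGroup.mk' A)) ∧ IsPGroup p (P.map (QuotientGroup.mk' A))
    · refine ⟨g⁻¹ * z * g, ?_, fun u hu => ?_⟩
      · show _ = ((Additive.toMul (Additive.ofMul (if hP : Centric p (P.map (QuotientGroup.mk' A)) ∧
          IsPGroup p (P.map (QuotientGroup.mk' A)) then _ else 1)) : ↥(zc p (P.map (QuotientGroup.mk' A)))) : L ⧸ A)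
        rw [dif_pos hP, QuotientGroup.mk_mul, QuotientGroup.mk_mul, hz]
        rfl
      · have := hz' _ (h u hu)
        calc g⁻¹ * z * g * u = g⁻¹ * (z * (g * u * g⁻¹)) * g := by group
          _ = g⁻¹ * (g * u * g⁻¹ * z) * g := by rw [this]
          _ = u * (g⁻¹ * z * g) := by group
    · refine ⟨1, ?_, fun u _ => by simp⟩
      show _ = ((Additive.toMul (Additive.ofMul (if hP : Centric p (P.map (QuotientGroup.mk' A)) ∧
        IsPGroup p (P.map (QuotientGroup.mk' A)) then _ else 1)) : ↥(zc p (P.map (QuotientGroup.mk' A)))) : L ⧸ A)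
      rw [dif_neg hP]
      rfl)

/-- the inclusion `N → ZG` -/
noncomputable def incN (p : ℕ) (A : Subgroup L) [A.Normal] (V : Set (Subgroup L)) :
    Coef.HomOn (NS p A) (ZG p A) V where
  f P := (NSub p A P).subtype
  nat _ _ _ _ _ _ _ := rfl

theorem incN_injective (p : ℕ) (A : Subgroup L) [A.Normal] (V : Set (Subgroup L)) (P : Subgroup L) :
    Function.Injective ((incN p A V).f P) := Subtype.val_injective

end Cfsg.Agent.H119.Lim
end

-- part: H119/Lim/Ex2
section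
/-!
# S5242, H2a: the map `ZG → K` and the exact sequence `0 → N → ZG → K → 0` (helper119)
-/

set_option autoImplicit false

namespace Cfsg.Agent.H119.Lim

open MulAction Cfsg.Agent.H539.Lim

universe u v w

variable {L : Type u} [Group L] {p : ℕ} {A : Subgroup L} [A.Normal]

/-- the element of `L ⧸ A` -/
def toQ {P : Subgroup L} (m : (ZG p A).M P) : L ⧸ A :=
  ((Additive.toMul (α := ↥(zc p (P.map (QuotientGroup.mk' A)))) m :
    ↥(zc p (P.map (QuotientGroup.mk' A)))) : L ⧸ A)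

theorem toQ_inj {P : Subgroup L} {m n : (ZG p A).M P} (h : toQ m = toQ n) : m = n :=
  Additive.toMul.injective (α := ↥(zc p (P.map (QuotientGroup.mk' A)))) (Subtype.ext h)

theorem toQ_add {P : Subgroup L} (m n : (ZG p A).M P) : toQ (m + n) = toQ m * toQ n := rfl

theorem toQ_zero {P : Subgroup L} : toQ (0 : (ZG p A).M P) = 1 := rfl

/-- a lift -/
noncomputable def rep {P : Subgroup L} (m : (ZG p A).M P) : L := Quotient.out (toQ m)

theorem mk_rep {P : Subgroup L} (m : (ZG p A).M P) : ((rep m : L) : L ⧸ A) = toQ m := QuotientGroup.out_eq' _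

theorem kc_mem_of_lift {P : Subgroup L} {m : (ZG p A).M P} {z : L} (hz : (z : L ⧸ A) = toQ m) {u : L}
    (hu : u ∈ P) : kc z u ∈ A := by
  have h1 := (Additive.toMul (α := ↥(zc p (P.map (QuotientGroup.mk' A)))) m).2.2.1 _
    (⟨u, hu, rfl⟩ : (QuotientGroup.mk' A) u ∈ P.map (QuotientGroup.mk' A))
  rw [← QuotientGroup.eq_one_iff]
  show ((z : L ⧸ A) * u * (z : L ⧸ A)⁻¹ * (u : L ⧸ A)⁻¹) = 1
  rw [mul_inv_eq_one, mul_inv_eq_iff_eq_mul, hz]
  exact h1

theorem toQ_tau {g : L} {P Q : Subgroup L} (h : ∀ u ∈ P, g * u * g⁻¹ ∈ Q)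
    (hP : Centric p (P.map (QuotientGroup.mk' A)) ∧ IsPGroup p (P.map (QuotientGroup.mk' A)))
    (m : (ZG p A).M Q) : toQ ((ZG p A).τ g P Q h m) = (g : L ⧸ A)⁻¹ * toQ m * g := by
  classical
  show ((Additive.toMul (Additive.ofMul (if hP : Centric p (P.map (QuotientGroup.mk' A)) ∧
          IsPGroup p (P.map (QuotientGroup.mk' A)) then _ else 1)) : ↥(zc p (P.map (QuotientGroup.mk' A)))) : L ⧸ A) = _
  rw [dif_pos hP]
  rfl

section
variable (hA : A ≤ Subgroup.center L)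

/-- the map `ZG → K` -/
noncomputable def toKf (p : ℕ) (P : Subgroup L) : (ZG p A).M P →+ (KS A).M P where
  toFun m := ⟨fun u => Additive.ofMul ⟨kc (rep m) u, hA (kc_mem_of_lift (mk_rep m) u.2)⟩, rep m,
    fun u hu => kc_mem_of_lift (mk_rep m) hu, fun _ => rfl⟩
  map_zero' := by
    apply Subtype.ext
    funext u
    apply Additive.toMul.injective
    apply Subtype.ext
    show kc (rep (0 : (ZG p A).M P)) u = 1
    rw [← kc_one_left (u : L)]
    refine kc_lift hA ?_ _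
    rw [← QuotientGroup.eq, mk_rep]
    rfl
  map_add' m n := by
    apply Subtype.ext
    funext u
    apply Additive.toMul.injective
    apply Subtype.ext
    show kc (rep (m + n)) u = kc (rep m) u * kc (rep n) u
    rw [← kc_mul_left (hA (kc_mem_of_lift (mk_rep n) u.2))]
    refine kc_lift hA ?_ _
    rw [← QuotientGroup.eq, mk_rep, QuotientGroup.mk_mul, mk_rep, mk_rep]
    rfl

/-- the value at `u` -/
def kval {A P : Subgroup L} (f : (KS A).M P) (u : P) : L := (((f.1 u).toMul : ↥(Subgroup.center L)) : L)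

theorem kval_inj {A P : Subgroup L} {f g : (KS A).M P} (h : ∀ u : P, kval f u = kval g u) : f = g := by
  apply Subtype.ext
  funext u
  exact Additive.toMul.injective (Subtype.ext (h u))

theorem kval_zero {A P : Subgroup L} (u : P) : kval (0 : (KS A).M P) u = 1 := rfl

theorem kval_add {A P : Subgroup L} (f g : (KS A).M P) (u : P) : kval (f + g) u = kval f u * kval g u := rfl

theorem kval_tau {A P Q : Subgroup L} {g : L} (h : ∀ u ∈ P, g * u * g⁻¹ ∈ Q) (f : (KS A).M Q) (u : P) :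
    kval ((KS A).τ g P Q h f) u = kval f ⟨g * u * g⁻¹, h u u.2⟩ := rfl

theorem exists_kc {A P : Subgroup L} (f : (KS A).M P) :
    ∃ c : L, (∀ u ∈ P, kc c u ∈ A) ∧ ∀ u : P, kval f u = kc c u := f.2

theorem kval_toKf {P : Subgroup L} (m : (ZG p A).M P) {z : L} (hz : (z : L ⧸ A) = toQ m) (u : P) :
    kval (toKf hA p P m) u = kc z u := by
  show kc (rep m) u = kc z u
  refine kc_lift hA ?_ _
  rw [← QuotientGroup.eq, mk_rep, hz]

theorem centricQ {P : Subgroup L} (hAp : IsPGroup p A) (hP : P ∈ AllP p A ∩ CM p A) :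
    Centric p (P.map (QuotientGroup.mk' A)) ∧ IsPGroup p (P.map (QuotientGroup.mk' A)) :=
  ⟨(mem_CM_iff hAp hP.1.1).1 hP.2, AllP_map hP.1⟩

/-- the homomorphism `ZG → K` -/
noncomputable def toK (hAp : IsPGroup p A) : Coef.HomOn (ZG p A) (KS A) (AllP p A ∩ CM p A) where
  f P := toKf hA p P
  nat g P Q h hP hQ m := by
    apply kval_inj
    intro u
    have h1 : ((g⁻¹ * rep m * g : L) : L ⧸ A) = toQ ((ZG p A).τ g P Q h m) := by
      rw [toQ_tau h (centricQ hAp hP), QuotientGroup.mk_mul, QuotientGroup.mk_mul, mk_rep]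
      rfl
    rw [kval_toKf hA _ h1, kval_tau, kval_toKf hA _ (mk_rep m), kc_conj]
    have h2 : kc (rep m) (g * u * g⁻¹) ∈ Subgroup.center L := hA (kc_mem_of_lift (mk_rep m) (h u u.2))
    rw [Subgroup.mem_center_iff.1 h2 g⁻¹, mul_assoc, inv_mul_cancel, mul_one]

theorem toK_exact (hAp : IsPGroup p A) (P : Subgroup L) (m : (ZG p A).M P) :
    (toK hA hAp).f P m = 0 ↔ ∃ m' : (NS p A).M P, (incN p A (AllP p A ∩ CM p A)).f P m' = m := by
  constructor
  · intro h
    refine ⟨⟨m, rep m, mk_rep m, fun u hu => ?_⟩, rfl⟩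
    have h1 : kval (toKf hA p P m) ⟨u, hu⟩ = 1 := by
      have : toKf hA p P m = 0 := h
      rw [this]
      rfl
    rw [kval_toKf hA _ (mk_rep m)] at h1
    exact kc_eq_one.1 h1
  · rintro ⟨⟨m', z, hz, hz'⟩, rfl⟩
    apply kval_inj
    intro u
    show kval (toKf hA p P m') u = 1
    rw [kval_toKf hA m' hz]
    exact kc_eq_one.2 (hz' u u.2)

theorem toK_surjective [Fact p.Prime] [Finite L] (hAp : IsPGroup p A) {P : Subgroup L}
    (hP : P ∈ AllP p A ∩ CM p A) : Function.Surjective ((toK hA hAp).f P) := by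
  intro f
  obtain ⟨c, hc, hf⟩ := exists_kc f
  obtain ⟨b, hb⟩ := IsPGroup.iff_card.1 hAp
  have hp := Fact.out (p := p.Prime)
  obtain ⟨a, m, hm, ho⟩ := Nat.exists_eq_pow_mul_and_not_dvd (orderOf_pos c).ne' p hp.ne_one
  have hco : Nat.Coprime m (p ^ b) := Nat.Coprime.pow_right _ ((Nat.Prime.coprime_iff_not_dvd hp).2 hm).symm
  obtain ⟨k, hk0, hk1⟩ := Nat.chineseRemainder hco 0 1
  have hk2 : m ∣ k := (Nat.modEq_zero_iff_dvd).1 hk0
  have hkc : ∀ j : ℕ, ∀ u ∈ P, kc (c ^ j) u = (kc c u) ^ j := by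
    intro j u hu
    induction j with
    | zero => rw [pow_zero, pow_zero, kc_one_left]
    | succ j ih => rw [pow_succ, kc_mul_left (hA (hc u hu)), ih, pow_succ]
  have hck : ∀ u ∈ P, kc (c ^ k) u = kc c u := by
    intro u hu
    rw [hkc k u hu]
    have h1 : (kc c u) ^ (p ^ b) = 1 := by
      have := pow_card_eq_one' (x := (⟨kc c u, hc u hu⟩ : A))
      rw [hb] at this
      exact congrArg Subtype.val this
    have h2 : orderOf (kc c u) ∣ p ^ b := orderOf_dvd_of_pow_eq_one h1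
    have h3 : k ≡ 1 [MOD orderOf (kc c u)] := hk1.of_dvd h2
    rw [← pow_one (kc c u)] at h1 ⊢
    rw [← pow_mul, one_mul]
    exact pow_eq_pow_iff_modEq.2 h3
  have hcP : c ^ k ∈ P := by
    refine hP.2 _ (fun u hu => by rw [hck u hu]; exact hc u hu) ⟨a, ?_⟩
    rw [← pow_mul]
    apply orderOf_dvd_iff_pow_eq_one.1
    rw [ho, mul_comm]
    exact Nat.mul_dvd_mul hk2 (dvd_refl _)
  have hcm : ((c ^ k : L) : L ⧸ A) ∈ zc p (P.map (QuotientGroup.mk' A)) := by
    refine ⟨⟨_, hcP, rfl⟩, ?_, Or.inr (centricQ hAp hP)⟩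
    rintro _ ⟨w, hw, rfl⟩
    have h1 : kc (c ^ k) w ∈ A := by rw [hck w hw]; exact hc w hw
    rw [← QuotientGroup.eq_one_iff] at h1
    have h2 : (((c ^ k : L) : L ⧸ A) * w * ((c ^ k : L) : L ⧸ A)⁻¹ * (w : L ⧸ A)⁻¹) = 1 := h1
    rw [mul_inv_eq_one, mul_inv_eq_iff_eq_mul] at h2
    exact h2
  refine ⟨Additive.ofMul (⟨_, hcm⟩ : ↥(zc p (P.map (QuotientGroup.mk' A)))), ?_⟩
  apply kval_inj
  intro u
  rw [hf u, ← hck u u.2]
  exact kval_toKf hA (p := p) (A := A) (P := P) _ rfl u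

end

end Cfsg.Agent.H119.Lim
end

-- part: H119/Lim/Ex3
section
/-!
# S5242, H2a: the exact sequence `0 → A → ZL → N → 0` (helper119)
-/

set_option autoImplicit false

namespace Cfsg.Agent.H119.Lim

open MulAction Cfsg.Agent.H539.Lim

universe u v w

variable {L : Type u} [Group L] {p : ℕ}

/-- `A` as an additive group -/
def DA (A : Subgroup L) (_ : A ≤ Subgroup.center L) : Type u := Additive ↥A

section
variable {A : Subgroup L} (hA : A ≤ Subgroup.center L)

/-- `A` is commutative -/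
abbrev commA : CommGroup ↥A :=
  { (inferInstance : Group ↥A) with
    mul_comm := fun a b => Subtype.ext (Subgroup.mem_center_iff.1 (hA b.2) a) }

noncomputable instance instDA : AddCommGroup (DA A hA) := @Additive.addCommGroup ↥A (commA hA)

/-- the element of `L` -/
def aval (a : DA A hA) : L := ((Additive.toMul (α := ↥A) a : ↥A) : L)

theorem aval_add (a b : DA A hA) : aval hA (a + b) = aval hA a * aval hA b := rfl
theorem aval_zero : aval hA (0 : DA A hA) = 1 := rfl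
theorem aval_mem (a : DA A hA) : aval hA a ∈ A := (Additive.toMul (α := ↥A) a).2
theorem aval_inj {a b : DA A hA} (h : aval hA a = aval hA b) : a = b :=
  Additive.toMul.injective (α := ↥A) (Subtype.ext h)

/-- the element of `L` -/
def zval {P : Subgroup L} (m : (Coef.Z p L).M P) : L :=
  ((Additive.toMul (α := ↥(zc p P)) m : ↥(zc p P)) : L)

theorem zval_inj {P : Subgroup L} {m n : (Coef.Z p L).M P} (h : zval m = zval n) : m = n :=
  Additive.toMul.injective (α := ↥(zc p P)) (Subtype.ext h)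

theorem zval_mem {P : Subgroup L} (m : (Coef.Z p L).M P) : zval m ∈ zc p P :=
  (Additive.toMul (α := ↥(zc p P)) m).2

theorem zval_add {P : Subgroup L} (m n : (Coef.Z p L).M P) : zval (m + n) = zval m * zval n := rfl
theorem zval_zero {P : Subgroup L} : zval (0 : (Coef.Z p L).M P) = 1 := rfl

theorem zval_tau {g : L} {P Q : Subgroup L} (h : ∀ u ∈ P, g * u * g⁻¹ ∈ Q) (hP : Centric p P ∧ IsPGroup p P)
    (m : (Coef.Z p L).M Q) : zval ((Coef.Z p L).τ g P Q h m) = g⁻¹ * zval m * g := by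
  classical
  show ((Additive.toMul (Additive.ofMul (if hP : Centric p P ∧ IsPGroup p P then _ else 1)) : ↥(zc p P)) : L) = _
  rw [dif_pos hP]
  rfl

theorem centricL {P : Subgroup L} (hP : P ∈ AllP p A ∩ CM p A) : Centric p P ∧ IsPGroup p P :=
  ⟨centric_of_CM hP.2, hP.1.2⟩

open Classical in
/-- the inclusion of the constant system -/
noncomputable def AtoZ (p : ℕ) : Coef.HomOn (const L (DA A hA)) (Coef.Z p L) (AllP p A ∩ CM p A) where
  f P :=
    { toFun := fun a => Additive.ofMul (α := ↥(zc p P)) (if hP : P ∈ AllP p A ∩ CM p A then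
        ⟨aval hA a, hP.1.1 (aval_mem hA a), fun u _ => (Subgroup.mem_center_iff.1 (hA (aval_mem hA a)) u).symm,
          Or.inr (centricL hP)⟩ else 1)
      map_zero' := by
        by_cases hP : P ∈ AllP p A ∩ CM p A
        · rw [dif_pos hP]
          rfl
        · rw [dif_neg hP]
          rfl
      map_add' := fun a b => by
        by_cases hP : P ∈ AllP p A ∩ CM p A
        · rw [dif_pos hP, dif_pos hP, dif_pos hP]
          rfl
        · rw [dif_neg hP, dif_neg hP, dif_neg hP]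
          show (Additive.ofMul (1 : ↥(zc p P))) = Additive.ofMul ((1 : ↥(zc p P)) * 1)
          rw [mul_one] }
  nat g P Q h hP hQ a := by
    apply zval_inj
    rw [zval_tau h (centricL hP)]
    show ((if hP : P ∈ AllP p A ∩ CM p A then (⟨aval hA a, _⟩ : ↥(zc p P)) else 1 : ↥(zc p P)) : L) =
      g⁻¹ * ((if hQ : Q ∈ AllP p A ∩ CM p A then (⟨aval hA a, _⟩ : ↥(zc p Q)) else 1 : ↥(zc p Q)) : L) * g
    rw [dif_pos hP, dif_pos hQ]
    show aval hA a = g⁻¹ * aval hA a * g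
    rw [Subgroup.mem_center_iff.1 (hA (aval_mem hA a)) g⁻¹, mul_assoc, inv_mul_cancel, mul_one]

theorem zval_AtoZ {P : Subgroup L} (hP : P ∈ AllP p A ∩ CM p A) (a : DA A hA) :
    zval ((AtoZ hA p).f P a) = aval hA a := by
  classical
  show ((if hP : P ∈ AllP p A ∩ CM p A then (⟨aval hA a, _⟩ : ↥(zc p P)) else 1 : ↥(zc p P)) : L) = _
  rw [dif_pos hP]

theorem AtoZ_injective {P : Subgroup L} (hP : P ∈ AllP p A ∩ CM p A) :
    Function.Injective ((AtoZ hA p).f P) := by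
  intro a b h
  apply aval_inj
  rw [← zval_AtoZ hA hP a, ← zval_AtoZ hA hP b, h]

variable [A.Normal]

/-- the element of `L ⧸ A` -/
def nval {P : Subgroup L} (m : (NS p A).M P) : L ⧸ A := toQ (p := p) (m.1 : (ZG p A).M P)

theorem nval_inj {P : Subgroup L} {m n : (NS p A).M P} (h : nval m = nval n) : m = n :=
  Subtype.ext (toQ_inj h)

/-- the map `Z(P) → Z(P)/A` on `U'` -/
def ZtoN0 (hAp : IsPGroup p A) {P : Subgroup L} (hP : P ∈ AllP p A ∩ CM p A) (m : (Coef.Z p L).M P) :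
    (NS p A).M P :=
  ⟨Additive.ofMul (α := ↥(zc p (P.map (QuotientGroup.mk' A)))) ⟨((zval m : L) : L ⧸ A),
    ⟨⟨zval m, (zval_mem m).1, rfl⟩, by
      rintro _ ⟨w, hw, rfl⟩
      have := (zval_mem m).2.1 w hw
      exact congrArg (QuotientGroup.mk' A) this, Or.inr (centricQ hAp hP)⟩⟩, zval m, rfl, (zval_mem m).2.1⟩

theorem nval_ZtoN0 (hAp : IsPGroup p A) {P : Subgroup L} (hP : P ∈ AllP p A ∩ CM p A) (m : (Coef.Z p L).M P) :
    nval (ZtoN0 hAp hP m) = ((zval m : L) : L ⧸ A) := rfl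

open Classical in
/-- the map `Z(P) → Z(P)/A` -/
noncomputable def ZtoNf (hAp : IsPGroup p A) (P : Subgroup L) : (Coef.Z p L).M P →+ (NS p A).M P where
  toFun := fun m => if hP : P ∈ AllP p A ∩ CM p A then ZtoN0 hAp hP m else 0
  map_zero' := by
    by_cases hP : P ∈ AllP p A ∩ CM p A
    · rw [dif_pos hP]
      exact nval_inj rfl
    · rw [dif_neg hP]
  map_add' := fun a b => by
    by_cases hP : P ∈ AllP p A ∩ CM p A
    · rw [dif_pos hP, dif_pos hP, dif_pos hP]
      exact nval_inj rfl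
    · rw [dif_neg hP, dif_neg hP, dif_neg hP, add_zero]

theorem nval_ZtoNf (hAp : IsPGroup p A) {P : Subgroup L} (hP : P ∈ AllP p A ∩ CM p A) (m : (Coef.Z p L).M P) :
    nval (ZtoNf hAp P m) = ((zval m : L) : L ⧸ A) := by
  classical
  have : ZtoNf hAp P m = ZtoN0 hAp hP m := dif_pos hP
  rw [this]
  rfl

theorem nval_tau {g : L} {P Q : Subgroup L} (h : ∀ u ∈ P, g * u * g⁻¹ ∈ Q)
    (hP : Centric p (P.map (QuotientGroup.mk' A)) ∧ IsPGroup p (P.map (QuotientGroup.mk' A)))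
    (m : (NS p A).M Q) : nval ((NS p A).τ g P Q h m) = (g : L ⧸ A)⁻¹ * nval m * g := toQ_tau h hP m.1

/-- the homomorphism `Z → N` -/
noncomputable def ZtoN (hAp : IsPGroup p A) : Coef.HomOn (Coef.Z p L) (NS p A) (AllP p A ∩ CM p A) where
  f P := ZtoNf hAp P
  nat g P Q h hP hQ m := by
    apply nval_inj
    rw [nval_ZtoNf hAp hP, nval_tau h (centricQ hAp hP), nval_ZtoNf hAp hQ, zval_tau h (centricL hP)]
    rfl

theorem ZtoN_exact (hAp : IsPGroup p A) {P : Subgroup L} (hP : P ∈ AllP p A ∩ CM p A) (m : (Coef.Z p L).M P) :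
    (ZtoN hAp).f P m = 0 ↔ ∃ a : DA A hA, (AtoZ hA p).f P a = m := by
  constructor
  · intro h
    have h1 : nval (ZtoNf hAp P m) = 1 := by
      have : ZtoNf hAp P m = 0 := h
      rw [this]
      rfl
    rw [nval_ZtoNf hAp hP, QuotientGroup.eq_one_iff] at h1
    refine ⟨(Additive.ofMul (α := ↥A) ⟨zval m, h1⟩ : DA A hA), ?_⟩
    apply zval_inj
    exact zval_AtoZ hA hP _
  · rintro ⟨a, rfl⟩
    apply nval_inj
    show nval (ZtoNf hAp P _) = 1
    rw [nval_ZtoNf hAp hP, zval_AtoZ hA hP, QuotientGroup.eq_one_iff]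
    exact aval_mem hA a

theorem ZtoN_surjective (hAp : IsPGroup p A) {P : Subgroup L} (hP : P ∈ AllP p A ∩ CM p A) :
    Function.Surjective ((ZtoN hAp).f P) := by
  rintro ⟨m, z, hz, hz'⟩
  have h1 : z ∈ P := by
    obtain ⟨w, hw, h⟩ := (Additive.toMul (α := ↥(zc p (P.map (QuotientGroup.mk' A)))) m).2.1
    rw [← hz] at h
    have h2 : w⁻¹ * z ∈ A := QuotientGroup.eq.1 h
    have := P.mul_mem hw (hP.1.1 h2)
    simpa using this
  refine ⟨Additive.ofMul (α := ↥(zc p P)) ⟨z, h1, hz', Or.inr (centricL hP)⟩, ?_⟩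
  apply nval_inj
  exact (nval_ZtoNf hAp hP _).trans hz

end

end Cfsg.Agent.H119.Lim
end

-- part: H446/Lim/HomAcyclic
section
/-!
# S5242, H1: the functor `P ↦ Hom(P / A, A)` is acyclic (helper446)

`L` acts on `Ω`, `W` an orbit of length prime to `p`.  For `x ∈ Ω` the transfers of the homomorphisms
`e w x : L_w ∩ L_x → A`, `w ∈ W`, to `L_x` are combined in one formula: a *cocycle* `Φ : P → W → A'` of a group `P` acting on
`W` satisfies `Φ (u u') w = Φ u (u' w) Φ u' w`; it is determined up to a coboundary by its values on the stabilizers, so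
`∏ w, Φ u w` depends only on these values (`prod_eq`), and any equivariant family of homomorphisms on the stabilizers
extends to a cocycle (`exists_cocycle`).
-/

set_option autoImplicit false

namespace Cfsg.Agent.H446.Lim

open MulAction Cfsg.Agent.H539.Lim

universe u v

section transfer

variable {P W A : Type*} [Group P] [MulAction P W] [CommGroup A]

/-- orbit representatives -/
theorem exists_section (P W : Type*) [Group P] [MulAction P W] :
    ∃ (r : W → W) (s : W → P), (∀ w, s w • r w = w) ∧ ∀ (u : P) w, r (u • w) = r w := by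
  let _ : Setoid W := orbitRel P W
  let r : W → W := fun w => (⟦w⟧ : Quotient (orbitRel P W)).out
  have h1 : ∀ w, ∃ s : P, s • r w = w := by
    intro w
    have h2 : (orbitRel P W) w (r w) := Setoid.symm (Quotient.mk_out (s := orbitRel P W) w)
    obtain ⟨s, hs⟩ := orbitRel_apply.1 h2
    exact ⟨s, hs⟩
  choose s hs using h1
  refine ⟨r, s, hs, fun u w => ?_⟩
  have h2 : (⟦u • w⟧ : Quotient (orbitRel P W)) = ⟦w⟧ :=
    Quotient.sound (s := orbitRel P W) (orbitRel_apply.2 ⟨u, rfl⟩)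
  show (⟦u • w⟧ : Quotient (orbitRel P W)).out = _
  rw [h2]

/-- An equivariant family of homomorphisms on the stabilizers extends to a cocycle. -/
theorem exists_cocycle (f : W → P → A)
    (hmul : ∀ w u u', u • w = w → u' • w = w → f w (u * u') = f w u * f w u')
    (hconj : ∀ (l : P) w u, u • w = w → f (l • w) (l * u * l⁻¹) = f w u) :
    ∃ Φ : P → W → A, (∀ u u' w, Φ (u * u') w = Φ u (u' • w) * Φ u' w) ∧ ∀ w u, u • w = w → Φ u w = f w u := by
  obtain ⟨r, s, hs, hr⟩ := exists_section P W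
  have hst : ∀ u w, ((s (u • w))⁻¹ * u * s w) • r w = r w := by
    intro u w
    rw [mul_smul, mul_smul, hs, inv_smul_eq_iff, ← hr u w, hs]
  refine ⟨fun u w => f (r w) ((s (u • w))⁻¹ * u * s w), fun u u' w => ?_, fun w u hu => ?_⟩
  · have h1 : (s ((u * u') • w))⁻¹ * (u * u') * s w =
        ((s (u • u' • w))⁻¹ * u * s (u' • w)) * ((s (u' • w))⁻¹ * u' * s w) := by
      rw [mul_smul]
      group
    have h2 := hst u (u' • w)
    rw [hr u' w] at h2
    show f (r w) _ = f (r (u' • w)) _ * f (r w) _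
    rw [h1, hmul _ _ _ h2 (hst u' w), hr u' w]
  · show f (r w) ((s (u • w))⁻¹ * u * s w) = f w u
    have h1 := hconj (s w) (r w) ((s w)⁻¹ * u * s w) (by
      have := hst u w
      rwa [hu] at this)
    have h2 : s w * ((s w)⁻¹ * u * s w) * (s w)⁻¹ = u := by group
    rw [h2, hs] at h1
    rw [hu, h1]

/-- The product of a cocycle depends only on the values on the stabilizers. -/
theorem prod_eq [Fintype W] {Φ Φ' : P → W → A} (h : ∀ u u' w, Φ (u * u') w = Φ u (u' • w) * Φ u' w)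
    (h' : ∀ u u' w, Φ' (u * u') w = Φ' u (u' • w) * Φ' u' w) (hst : ∀ w u, u • w = w → Φ u w = Φ' u w) (u : P) :
    ∏ w, Φ u w = ∏ w, Φ' u w := by
  obtain ⟨r, s, hs, hr⟩ := exists_section P W
  let Ψ : P → W → A := fun u w => Φ u w / Φ' u w
  have hΨ : ∀ u u' w, Ψ (u * u') w = Ψ u (u' • w) * Ψ u' w := by
    intro u u' w
    simp only [Ψ, h, h']
    rw [mul_div_mul_comm]
  have hΨst : ∀ w u, u • w = w → Ψ u w = 1 := fun w u hu => by
    simp only [Ψ, hst w u hu, div_self']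
  let κ : W → A := fun w => Ψ (s w) (r w)
  have key : ∀ w, Ψ u w = κ (u • w) / κ w := by
    intro w
    have e1 : Ψ (u * s w) (r w) = Ψ u w * κ w := by rw [hΨ, hs]
    have h3 : ((s (u • w))⁻¹ * u * s w) • r w = r w := by
      rw [mul_smul, mul_smul, hs, inv_smul_eq_iff, ← hr u w, hs]
    have e2 : Ψ (u * s w) (r w) = κ (u • w) := by
      have h4 : u * s w = s (u • w) * ((s (u • w))⁻¹ * u * s w) := by group
      rw [h4, hΨ, hΨst _ _ h3, mul_one, h3]
      show _ = Ψ (s (u • w)) (r (u • w))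
      rw [hr]
    rw [← e2, e1, mul_div_cancel_right]
  have h5 : ∏ w, Ψ u w = 1 := by
    rw [Finset.prod_congr rfl fun w _ => key w, Finset.prod_div_distrib]
    have h6 : ∏ w, κ (u • w) = ∏ w, κ w := Equiv.prod_comp (MulAction.toPerm u) κ
    rw [h6, div_self']
  have h7 : (∏ w, Φ u w) / ∏ w, Φ' u w = 1 := by
    rw [← Finset.prod_div_distrib]
    exact h5
  exact div_eq_one.1 h7

end transfer

/-- an orbit of length prime to `p` -/
theorem exists_orbit {p : ℕ} [Fact p.Prime] {L : Type u} [Group L] [Finite L] {Ω : Type v} [MulAction L Ω]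
    (hΩ : PSet p L Ω) : ∃ x₀ : Ω, ¬ p ∣ Nat.card (orbit L x₀) := by
  obtain ⟨S⟩ : Nonempty (Sylow p L) := inferInstance
  obtain ⟨x₀, hx₀⟩ := hΩ.exists_fix S S.2
  refine ⟨x₀, ?_⟩
  have h1 : (S : Subgroup L) = stabilizer L x₀ := S.3 (hΩ.pgroup x₀) hx₀ |>.symm
  have h2 : Nat.card (orbit L x₀) = (S : Subgroup L).index := by
    rw [h1, Subgroup.index]
    exact Nat.card_congr (orbitEquivQuotientStabilizer L x₀)
  rw [h2]
  exact S.not_dvd_index

/-- **H1: homs are acyclic (exact cocycle).** -/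
theorem hom_acyclic {p : ℕ} [Fact p.Prime] {L : Type u} [Group L] [Finite L] {Ω : Type v} [MulAction L Ω]
    [Finite Ω] (hΩ : PSet p L Ω) (A : Subgroup L) (hA : A ≤ Subgroup.center L) (hAp : IsPGroup p A)
    (hAst : ∀ x : Ω, A ≤ stabilizer L x) (e : Ω → Ω → L → L)
    (he : ∀ x y, ∀ u ∈ stabilizer L x ⊓ stabilizer L y, e x y u ∈ A)
    (hmul : ∀ x y, ∀ u ∈ stabilizer L x ⊓ stabilizer L y, ∀ w ∈ stabilizer L x ⊓ stabilizer L y,
      e x y (u * w) = e x y u * e x y w)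
    (heA : ∀ x y, ∀ u ∈ A, e x y u = 1)
    (heq : ∀ (l : L) x y, ∀ u ∈ stabilizer L x ⊓ stabilizer L y, e (l • x) (l • y) (l * u * l⁻¹) = e x y u)
    (hcoc : ∀ x y z, ∀ u ∈ stabilizer L x ⊓ stabilizer L y ⊓ stabilizer L z, e x y u * e y z u = e x z u) :
    ∃ v : Ω → L → L, (∀ x, ∀ u ∈ stabilizer L x, v x u ∈ A) ∧
      (∀ x, ∀ u ∈ stabilizer L x, ∀ w ∈ stabilizer L x, v x (u * w) = v x u * v x w) ∧
      (∀ x, ∀ u ∈ A, v x u = 1) ∧
      (∀ (l : L) x, ∀ u ∈ stabilizer L x, v (l • x) (l * u * l⁻¹) = v x u) ∧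
      ∀ x y, ∀ u ∈ stabilizer L x ⊓ stabilizer L y, e x y u * v x u = v y u := by
  classical
  let _ : CommGroup A :=
    { (inferInstance : Group A) with
      mul_comm := fun a b => Subtype.ext ((Subgroup.mem_center_iff.1 (hA b.2)) a.1) }
  obtain ⟨x₀, hx₀⟩ := exists_orbit hΩ
  let _ : Fintype (orbit L x₀) := Fintype.ofFinite _
  -- the inverse of the length of the orbit
  obtain ⟨m, hm⟩ : ∃ m : ℕ, ∀ a : A, (a ^ Nat.card (orbit L x₀)) ^ m = a := by
    obtain ⟨k, hk⟩ := IsPGroup.iff_card.1 hAp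
    have hcop : Nat.Coprime (Nat.card (orbit L x₀)) (Nat.card A) := by
      rw [hk]
      exact ((Nat.Prime.coprime_iff_not_dvd Fact.out).2 hx₀).symm.pow_right k
    rcases Nat.lt_or_ge 1 (Nat.card A) with h1 | h1
    · obtain ⟨m, -, hm⟩ := Nat.exists_mul_mod_eq_one_of_coprime hcop h1
      refine ⟨m, fun a => ?_⟩
      rw [← pow_mul, ← pow_mod_natCard, hm, pow_one]
    · refine ⟨1, fun a => ?_⟩
      have h2 : Subsingleton A := by
        rw [← Finite.card_le_one_iff_subsingleton]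
        exact h1
      exact Subsingleton.elim _ _
  -- the cocycles
  let f : ∀ x : Ω, orbit L x₀ → stabilizer L x → A := fun x w u =>
    if h : (u : L) ∈ stabilizer L (w : Ω) then ⟨e w x u, he w x u ⟨h, u.2⟩⟩ else 1
  have hmem : ∀ (x : Ω) (w : orbit L x₀) (u : stabilizer L x), u • w = w → (u : L) ∈ stabilizer L (w : Ω) := by
    intro x w u h
    rw [mem_stabilizer_iff]
    exact congrArg Subtype.val h
  have hfv : ∀ (x : Ω) (w : orbit L x₀) (u : stabilizer L x), u • w = w → ((f x w u : A) : L) = e w x u := by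
    intro x w u h
    simp only [f, dif_pos (hmem x w u h)]
  have hex : ∀ x : Ω, ∃ Φ : stabilizer L x → orbit L x₀ → A, (∀ u u' w, Φ (u * u') w = Φ u (u' • w) * Φ u' w) ∧
      ∀ w u, u • w = w → Φ u w = f x w u := by
    intro x
    refine exists_cocycle (f x) (fun w u u' hu hu' => ?_) (fun l w u hu => ?_)
    · apply Subtype.ext
      have h1 : (u * u') • w = w := by rw [mul_smul, hu', hu]
      rw [Subgroup.coe_mul, hfv _ _ _ h1, hfv _ _ _ hu, hfv _ _ _ hu', Subgroup.coe_mul]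
      exact hmul _ _ _ ⟨hmem x w u hu, u.2⟩ _ ⟨hmem x w u' hu', u'.2⟩
    · apply Subtype.ext
      have h1 : (l * u * l⁻¹) • l • w = l • w := by rw [mul_smul, mul_smul, inv_smul_smul, hu]
      rw [hfv _ _ _ h1, hfv _ _ _ hu]
      have h2 := heq (l : L) (w : Ω) x u ⟨hmem x w u hu, u.2⟩
      have h3 : (l : L) • x = x := mem_stabilizer_iff.1 l.2
      rw [h3] at h2
      exact h2
  choose Φ hΦ1 hΦ2 using hex
  let F : ∀ x : Ω, stabilizer L x → A := fun x u => (∏ w, Φ x u w) ^ m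
  have hFmul : ∀ x u u', F x (u * u') = F x u * F x u' := by
    intro x u u'
    simp only [F]
    rw [← mul_pow]
    congr 1
    rw [Finset.prod_congr rfl fun w _ => hΦ1 x u u' w, Finset.prod_mul_distrib]
    congr 1
    exact Equiv.prod_comp (MulAction.toPerm u') (Φ x u)
  let V : Ω → L → L := fun x u => if h : u ∈ stabilizer L x then ((F x ⟨u, h⟩ : A) : L) else 1
  have hV : ∀ x u (h : u ∈ stabilizer L x), V x u = ((F x ⟨u, h⟩ : A) : L) := fun x u h => by
    simp only [V, dif_pos h]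
  refine ⟨V, fun x u hu => ?_, fun x u hu w hw => ?_, fun x u hu => ?_, fun l x u hu => ?_, fun x y u hu => ?_⟩
  · rw [hV x u hu]
    exact (F x ⟨u, hu⟩).2
  · rw [hV x u hu, hV x w hw, hV x _ (mul_mem hu hw), ← Subgroup.coe_mul, ← hFmul]
    rfl
  · have hux := hAst x hu
    rw [hV x u hux]
    have h1 : ∀ w, Φ x ⟨u, hux⟩ w = 1 := by
      intro w
      have h2 : (⟨u, hux⟩ : stabilizer L x) • w = w := Subtype.ext (mem_stabilizer_iff.1 (hAst (w : Ω) hu))
      rw [hΦ2 x w _ h2]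
      apply Subtype.ext
      rw [hfv _ _ _ h2]
      exact heA _ _ u hu
    simp only [F]
    rw [Finset.prod_congr rfl fun w _ => h1 w, Finset.prod_const_one, one_pow]
    rfl
  · -- equivariance
    have hlu : l * u * l⁻¹ ∈ stabilizer L (l • x) := by
      rw [mem_stabilizer_iff] at hu ⊢
      rw [mul_smul, mul_smul, inv_smul_smul, hu]
    rw [hV _ _ hlu, hV _ _ hu]
    congr 1
    simp only [F]
    congr 1
    -- the transported cocycle
    let ψ : stabilizer L x → stabilizer L (l • x) := fun u => ⟨l * u * l⁻¹, by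
      rw [mem_stabilizer_iff, mul_smul, mul_smul, inv_smul_smul]
      exact congrArg (l • ·) (mem_stabilizer_iff.1 u.2)⟩
    have h1 : ∏ w, Φ (l • x) ⟨l * u * l⁻¹, hlu⟩ w = ∏ w, Φ (l • x) (ψ ⟨u, hu⟩) (l • w) :=
      (Equiv.prod_comp (MulAction.toPerm l) (Φ (l • x) ⟨l * u * l⁻¹, hlu⟩)).symm
    rw [h1]
    refine prod_eq (Φ := fun u w => Φ (l • x) (ψ u) (l • w)) (fun u u' w => ?_) (hΦ1 x) (fun w u hu => ?_) ⟨u, hu⟩
    · have h2 : ψ (u * u') = ψ u * ψ u' := by
        apply Subtype.ext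
        show l * ((u : L) * (u' : L)) * l⁻¹ = (l * u * l⁻¹) * (l * u' * l⁻¹)
        group
      have h3 : ψ u' • l • w = l • u' • w := by
        apply Subtype.ext
        show (l * (u' : L) * l⁻¹) • l • (w : Ω) = l • (u' : L) • (w : Ω)
        rw [mul_smul, mul_smul, inv_smul_smul]
      show Φ (l • x) (ψ (u * u')) (l • w) = Φ (l • x) (ψ u) (l • u' • w) * Φ (l • x) (ψ u') (l • w)
      rw [h2, hΦ1, h3]
    · have h3 : ψ u • l • w = l • w := by
        apply Subtype.ext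
        show (l * (u : L) * l⁻¹) • l • (w : Ω) = l • (w : Ω)
        rw [mul_smul, mul_smul, inv_smul_smul]
        exact congrArg (l • ·) (congrArg Subtype.val hu)
      show Φ (l • x) (ψ u) (l • w) = Φ x u w
      rw [hΦ2 _ _ _ h3, hΦ2 _ _ _ hu]
      apply Subtype.ext
      rw [hfv _ _ _ h3, hfv _ _ _ hu]
      exact heq l (w : Ω) x u ⟨hmem x w u hu, u.2⟩
  · -- the coboundary
    obtain ⟨hux, huy⟩ := hu
    rw [hV _ _ hux, hV _ _ huy]
    let E : ↥(stabilizer L x ⊓ stabilizer L y) → A := fun u => ⟨e x y u, he x y u u.2⟩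
    have hE : ∀ u u', E (u * u') = E u * E u' := fun u u' => Subtype.ext (hmul x y u u.2 u' u'.2)
    let i : ↥(stabilizer L x ⊓ stabilizer L y) → stabilizer L x := fun u => ⟨u, u.2.1⟩
    let j : ↥(stabilizer L x ⊓ stabilizer L y) → stabilizer L y := fun u => ⟨u, u.2.2⟩
    have h1 : ∏ w, Φ y (j ⟨u, ⟨hux, huy⟩⟩) w = ∏ w, (E ⟨u, ⟨hux, huy⟩⟩ * Φ x (i ⟨u, ⟨hux, huy⟩⟩) w) := by
      refine prod_eq (Φ := fun u w => Φ y (j u) w) (Φ' := fun u w => E u * Φ x (i u) w) (fun u u' w => ?_)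
        (fun u u' w => ?_) (fun w u hu => ?_) ⟨u, ⟨hux, huy⟩⟩
      · exact hΦ1 y (j u) (j u') w
      · show E (u * u') * Φ x (i u * i u') w = E u * Φ x (i u) (u' • w) * (E u' * Φ x (i u') w)
        rw [hE, hΦ1]
        have h3 : i u' • w = u' • w := rfl
        rw [h3, mul_mul_mul_comm]
      · have hj : j u • w = w := hu
        have hi : i u • w = w := hu
        show Φ y (j u) w = E u * Φ x (i u) w
        rw [hΦ2 _ _ _ hj, hΦ2 _ _ _ hi]
        apply Subtype.ext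
        rw [Subgroup.coe_mul, hfv _ _ _ hj, hfv _ _ _ hi]
        have h4 := hcoc (w : Ω) x y u ⟨⟨hmem x w (i u) hi, u.2.1⟩, u.2.2⟩
        show e w y u = e x y u * e w x u
        rw [← h4]
        exact ((Subgroup.mem_center_iff.1 (hA (he (w : Ω) x u ⟨hmem x w (i u) hi, u.2.1⟩))) _).symm
    rw [Finset.prod_mul_distrib, Finset.prod_const, Finset.card_univ, ← Nat.card_eq_fintype_card] at h1
    have h2 : F y ⟨u, huy⟩ = E ⟨u, ⟨hux, huy⟩⟩ * F x ⟨u, hux⟩ := by
      show (∏ w, Φ y (j ⟨u, ⟨hux, huy⟩⟩) w) ^ m = _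
      rw [h1, mul_pow, hm]
    rw [h2]
    rfl

end Cfsg.Agent.H446.Lim
end

-- part: H425/Lim/Corr
section
/-!
# Correcting a cocycle with values in `Hom(P/A, A)` modulo `K` (helper425, for S5242)
-/

set_option autoImplicit false

namespace Cfsg.Agent.H425.Lim

open MulAction Cfsg.Agent.H539.Lim
open Cfsg.Agent.H119.Lim (AllP CM KS kc const DA kval AllP_ordConnected AllP_isInv CM_isUpperSet CM_isInv)

universe u v w

section
variable {L : Type u} [Group L] {A : Subgroup L} {Ω : Type v} [MulAction L Ω]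

instance instCen : CommGroup ↥(Subgroup.center L) :=
  { (inferInstance : Group ↥(Subgroup.center L)) with
    mul_comm := fun a b => Subtype.ext (Subgroup.mem_center_iff.mp b.2 (a : L)) }

/-- evaluation at `u` -/
def evK {P : Subgroup L} (u : P) : (KS A).M P →+ Additive ↥(Subgroup.center L) where
  toFun f := f.1 u
  map_zero' := rfl
  map_add' _ _ := rfl

theorem evK_congr {k : ℕ} (b : ∀ x : Fin k → Ω, (KS A).M (st L x)) {x x' : Fin k → Ω} (h : x = x') {u : L}
    (hu : u ∈ st L x) (hu' : u ∈ st L x') : evK ⟨u, hu⟩ (b x) = evK ⟨u, hu'⟩ (b x') := by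
  subst h; rfl

theorem evK_res {P Q : Subgroup L} (h : P ≤ Q) (f : (KS A).M Q) {u : L} (hu : u ∈ P) :
    evK ⟨u, hu⟩ ((KS A).res h f) = evK ⟨u, h hu⟩ f := by
  exact congrArg f.1 (Subtype.ext (by simp))

theorem evK_dd {k : ℕ} (c : ∀ x : Fin k → Ω, (KS A).M (st L x)) (x : Fin (k + 1) → Ω) {u : L} (hu : u ∈ st L x) :
    evK ⟨u, hu⟩ ((KS A).dd c x) = ∑ i : Fin (k + 1), ((-1 : ℤ) ^ (i : ℕ)) •
      evK ⟨u, Coef.st_succAbove_le L x i hu⟩ (c (fun j => x (i.succAbove j))) := by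
  rw [Coef.dd, map_sum]
  refine Finset.sum_congr rfl fun i _ => ?_
  rw [map_zsmul, evK_res]

theorem mem_stab {k : ℕ} {x : Fin k → Ω} {u : L} (hu : u ∈ st L x) (i : Fin k) : u ∈ stabilizer L (x i) := by
  rw [mem_stabilizer_iff] at hu ⊢
  exact congrFun hu i

theorem mem_st {k : ℕ} {x : Fin k → Ω} {u : L} (hu : ∀ i, u ∈ stabilizer L (x i)) : u ∈ st L x := by
  rw [mem_stabilizer_iff]
  funext i
  exact hu i

theorem sign_four {M : Type u} [AddCommGroup M] (a b c d : M) :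
    ((-1 : ℤ) ^ 0) • a + ((-1 : ℤ) ^ 1) • b + ((-1 : ℤ) ^ 2) • c + ((-1 : ℤ) ^ 3) • d = a - b + c - d := by
  norm_num
  abel

theorem sign_three {M : Type u} [AddCommGroup M] (a b c : M) :
    ((-1 : ℤ) ^ 0) • a + ((-1 : ℤ) ^ 1) • b + ((-1 : ℤ) ^ 2) • c = a - b + c := by
  norm_num
  abel

theorem abel_four {M : Type u} [AddCommGroup M] (a b c d e f : M) :
    (a + b - c) - (d + b - e) + (f + c - e) - (f + a - d) = 0 := by abel

theorem exists_correct_of {p : ℕ} (hΩ : PSet p L Ω) (hA : A ≤ Subgroup.center L)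
    (hAst : ∀ x : Ω, A ≤ stabilizer L x) (hvan : (KS A).Van Ω (AllP p A) 2) (e : Ω → Ω → L → L)
    (he : ∀ x y, ∀ u ∈ stabilizer L x ⊓ stabilizer L y, e x y u ∈ A)
    (heq : ∀ (l : L) x y, ∀ u ∈ stabilizer L x ⊓ stabilizer L y, e (l • x) (l • y) (l * u * l⁻¹) = e x y u)
    (hcoc : ∀ x y z, ∃ c : L, (∀ u ∈ stabilizer L x ⊓ stabilizer L y ⊓ stabilizer L z, c * u * c⁻¹ * u⁻¹ ∈ A) ∧
      ∀ u ∈ stabilizer L x ⊓ stabilizer L y ⊓ stabilizer L z,
        e x y u * e y z u = e x z u * (c * u * c⁻¹ * u⁻¹)) :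
    ∃ c : Ω → Ω → L, (∀ x y, ∀ u ∈ stabilizer L x ⊓ stabilizer L y, c x y * u * (c x y)⁻¹ * u⁻¹ ∈ A) ∧
      (∀ (l : L) x y, ∀ u ∈ stabilizer L x ⊓ stabilizer L y,
        c (l • x) (l • y) * (l * u * l⁻¹) * (c (l • x) (l • y))⁻¹ * (l * u * l⁻¹)⁻¹ =
          c x y * u * (c x y)⁻¹ * u⁻¹) ∧
      ∀ x y z, ∀ u ∈ stabilizer L x ⊓ stabilizer L y ⊓ stabilizer L z,
        (e x y u * (c x y * u * (c x y)⁻¹ * u⁻¹)) * (e y z u * (c y z * u * (c y z)⁻¹ * u⁻¹)) =
          e x z u * (c x z * u * (c x z)⁻¹ * u⁻¹) := by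
  classical
  -- the values of `e` in the centre
  let E : ∀ (x y : Ω) (u : L), Additive ↥(Subgroup.center L) := fun x y u =>
    if h : e x y u ∈ Subgroup.center L then Additive.ofMul ⟨e x y u, h⟩ else 0
  have hE : ∀ x y u, u ∈ stabilizer L x → u ∈ stabilizer L y →
      (((Additive.toMul (E x y u)) : ↥(Subgroup.center L)) : L) = e x y u := by
    intro x y u h1 h2
    have h3 := hA (he x y u ⟨h1, h2⟩)
    show (((Additive.toMul (if h : e x y u ∈ Subgroup.center L then Additive.ofMul ⟨e x y u, h⟩ else 0)) :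
      ↥(Subgroup.center L)) : L) = e x y u
    rw [dif_pos h3]; rfl
  have hEeq : ∀ (l : L) x y u, u ∈ stabilizer L x → u ∈ stabilizer L y →
      E (l • x) (l • y) (l * u * l⁻¹) = E x y u := by
    intro l x y u h1 h2
    show (if h : e (l • x) (l • y) (l * u * l⁻¹) ∈ Subgroup.center L then _ else _) = (if h : e x y u ∈ _ then _ else _)
    have := heq l x y u ⟨h1, h2⟩
    simp only [this]
  -- the 2-cocycle
  have hκ : ∀ x : Fin 3 → Ω, ∃ f : (KS A).M (st L x), ∀ u (hu : u ∈ st L x),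
      evK ⟨u, hu⟩ f = E (x 0) (x 1) u + E (x 1) (x 2) u - E (x 0) (x 2) u := by
    intro x
    obtain ⟨c, hc1, hc2⟩ := hcoc (x 0) (x 1) (x 2)
    have hval : ∀ u, u ∈ st L x →
        (((Additive.toMul (E (x 0) (x 1) u + E (x 1) (x 2) u - E (x 0) (x 2) u)) : ↥(Subgroup.center L)) : L) =
          kc c u := by
      intro u hu
      have h0 := mem_stab hu 0
      have h1 := mem_stab hu 1
      have h2 := mem_stab hu 2
      have e1 := hE _ _ _ h0 h1
      have e2 := hE _ _ _ h1 h2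
      have e3 := hE _ _ _ h0 h2
      have h3 := hc2 u ⟨⟨h0, h1⟩, h2⟩
      show (((Additive.toMul (E (x 0) (x 1) u) * Additive.toMul (E (x 1) (x 2) u) / Additive.toMul (E (x 0) (x 2) u)) :
        ↥(Subgroup.center L)) : L) = c * u * c⁻¹ * u⁻¹
      rw [Subgroup.coe_div, Subgroup.coe_mul, e1, e2, e3, h3, div_eq_mul_inv,
        Subgroup.mem_center_iff.mp (hA (hc1 u ⟨⟨h0, h1⟩, h2⟩)) (e (x 0) (x 2) u)]
      group
    refine ⟨⟨fun u => E (x 0) (x 1) u + E (x 1) (x 2) u - E (x 0) (x 2) u, c, fun u hu => ?_, fun u => hval u u.2⟩,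
      fun u hu => rfl⟩
    exact hc1 u ⟨⟨mem_stab hu 0, mem_stab hu 1⟩, mem_stab hu 2⟩
  choose κ hκv using hκ
  have hcoch : (KS A).IsCoch (AllP p A) κ := by
    refine ⟨fun g x => ?_, fun x hx => absurd (st_mem_VV hΩ hAst x) hx⟩
    apply Subtype.ext
    funext ⟨u, hu⟩
    have h1 : g * u * g⁻¹ ∈ st L (g • x) := Coef.conj_st L g x u hu
    refine (hκv (g • x) (g * u * g⁻¹) h1).trans ((hκv x u hu).trans ?_).symm
    have h0 := mem_stab hu 0
    have h1 := mem_stab hu 1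
    have h2 := mem_stab hu 2
    rw [← hEeq g _ _ _ h0 h1, ← hEeq g _ _ _ h1 h2, ← hEeq g _ _ _ h0 h2]
    rfl
  have hcocyc : (KS A).IsCoc (AllP p A) κ := by
    intro x _
    apply Subtype.ext
    funext ⟨u, hu⟩
    refine (evK_dd κ x hu).trans ?_
    rw [Fin.sum_univ_four]
    rw [hκv, hκv, hκv, hκv]
    refine Eq.trans (sign_four (E (x 1) (x 2) u + E (x 2) (x 3) u - E (x 1) (x 3) u)
      (E (x 0) (x 2) u + E (x 2) (x 3) u - E (x 0) (x 3) u) (E (x 0) (x 1) u + E (x 1) (x 3) u - E (x 0) (x 3) u)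
      (E (x 0) (x 1) u + E (x 1) (x 2) u - E (x 0) (x 2) u)) ?_
    exact abel_four _ _ _ _ _ _
  obtain ⟨b, hb, hbκ⟩ := hvan κ hcoch hcocyc
  -- the correcting elements
  have hc := fun x y : Ω => H119.Lim.exists_kc (-(b ![x, y]))
  choose c hc1 hc2 using hc
  have hst2 : ∀ {x y : Ω} {u : L}, u ∈ stabilizer L x → u ∈ stabilizer L y → u ∈ st L ![x, y] := by
    intro x y u h1 h2
    refine mem_st fun i => ?_
    fin_cases i
    · exact h1
    · exact h2
  have hc3 : ∀ x y u (h1 : u ∈ stabilizer L x) (h2 : u ∈ stabilizer L y),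
      (((Additive.toMul (-(evK ⟨u, hst2 h1 h2⟩ (b ![x, y])))) : ↥(Subgroup.center L)) : L) =
        c x y * u * (c x y)⁻¹ * u⁻¹ := fun x y u h1 h2 => hc2 x y ⟨u, hst2 h1 h2⟩
  refine ⟨c, fun x y u hu => hc1 x y u (hst2 hu.1 hu.2), ?_, ?_⟩
  · intro l x y u hu
    have h1 : l * u * l⁻¹ ∈ stabilizer L (l • x) := by
      have : u ∈ stabilizer L x := hu.1
      rw [mem_stabilizer_iff] at this ⊢
      calc (l * u * l⁻¹) • l • x = l • u • x := by rw [smul_smul, smul_smul]; congr 1; group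
        _ = l • x := by rw [this]
    have h2 : l * u * l⁻¹ ∈ stabilizer L (l • y) := by
      have : u ∈ stabilizer L y := hu.2
      rw [mem_stabilizer_iff] at this ⊢
      calc (l * u * l⁻¹) • l • y = l • u • y := by rw [smul_smul, smul_smul]; congr 1; group
        _ = l • y := by rw [this]
    rw [← hc3 (l • x) (l • y) (l * u * l⁻¹) h1 h2, ← hc3 x y u hu.1 hu.2]
    have h3 := hb.equiv l ![x, y]
    have h4 : l • ![x, y] = ![l • x, l • y] := by
      funext i
      fin_cases i <;> rfl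
    have h5 : evK ⟨l * u * l⁻¹, hst2 h1 h2⟩ (b ![l • x, l • y]) = evK ⟨u, hst2 hu.1 hu.2⟩ (b ![x, y]) := by
      rw [← h3]
      exact evK_congr b h4.symm _ _
    rw [h5]
  · intro x y z u hu
    have hx := hu.1.1
    have hy := hu.1.2
    have hz := hu.2
    have hu3 : u ∈ st L ![x, y, z] := by
      refine mem_st fun i => ?_
      fin_cases i
      · exact hx
      · exact hy
      · exact hz
    have h1 := congrArg (evK ⟨u, hu3⟩) (hbκ ![x, y, z] (st_mem_VV hΩ hAst _))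
    rw [hκv, evK_dd, Fin.sum_univ_three] at h1
    have h2 : E x y u + E y z u - E x z u = evK ⟨u, hst2 hy hz⟩ (b ![y, z]) - evK ⟨u, hst2 hx hz⟩ (b ![x, z]) +
        evK ⟨u, hst2 hx hy⟩ (b ![x, y]) := by
      refine h1.trans (Eq.trans ?_ (sign_three _ _ _))
      refine congrArg₂ (· + ·) (congrArg₂ (· + ·) ?_ ?_) ?_
      · refine congrArg (fun t => ((-1 : ℤ) ^ 0) • t) (evK_congr b ?_ _ _)
        funext i; fin_cases i <;> rfl
      · refine congrArg (fun t => ((-1 : ℤ) ^ 1) • t) (evK_congr b ?_ _ _)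
        funext i; fin_cases i <;> rfl
      · refine congrArg (fun t => ((-1 : ℤ) ^ 2) • t) (evK_congr b ?_ _ _)
        funext i; fin_cases i <;> rfl
    rw [← hc3 x y u hx hy, ← hc3 y z u hy hz, ← hc3 x z u hx hz, ← hE x y u hx hy, ← hE y z u hy hz,
      ← hE x z u hx hz]
    generalize evK ⟨u, hst2 hx hy⟩ (b ![x, y]) = X at h2 ⊢
    generalize evK ⟨u, hst2 hy hz⟩ (b ![y, z]) = Y at h2 ⊢
    generalize evK ⟨u, hst2 hx hz⟩ (b ![x, z]) = W at h2 ⊢
    have h3 : (E x y u + -X) + (E y z u + -Y) = E x z u + -W := by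
      have e1 : (E x y u + -X) + (E y z u + -Y) = (E x y u + E y z u - E x z u) + (E x z u - X - Y) := by abel
      rw [e1, h2]; abel
    exact congrArg (fun t : Additive ↥(Subgroup.center L) => ((Additive.toMul t : ↥(Subgroup.center L)) : L)) h3

theorem kc_inv_left {c u : L} (h : kc c u ∈ Subgroup.center L) : kc c⁻¹ u = (kc c u)⁻¹ := by
  have h3 : kc (c⁻¹ * c) u = kc c⁻¹ u * kc c u := H119.Lim.kc_mul_left h
  rw [inv_mul_cancel, H119.Lim.kc_one_left] at h3
  exact eq_inv_of_mul_eq_one_left h3.symm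

/-- Theorem E from `H²(K) = 0` -/
theorem thmE_of {p : ℕ} [Fact p.Prime] [Finite L] [Finite Ω]
    (hΩ : PSet p L Ω) (hA : A ≤ Subgroup.center L) (hAp : IsPGroup p A)
    (hAst : ∀ x : Ω, A ≤ stabilizer L x) (hvan : (KS A).Van Ω (AllP p A) 2) (e : Ω → Ω → L → L)
    (he : ∀ x y, ∀ u ∈ stabilizer L x ⊓ stabilizer L y, e x y u ∈ A)
    (hmul : ∀ x y, ∀ u ∈ stabilizer L x ⊓ stabilizer L y, ∀ w ∈ stabilizer L x ⊓ stabilizer L y,
      e x y (u * w) = e x y u * e x y w)
    (heA : ∀ x y, ∀ u ∈ A, e x y u = 1)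
    (heq : ∀ (l : L) x y, ∀ u ∈ stabilizer L x ⊓ stabilizer L y, e (l • x) (l • y) (l * u * l⁻¹) = e x y u)
    (hcoc : ∀ x y z, ∃ c : L, (∀ u ∈ stabilizer L x ⊓ stabilizer L y ⊓ stabilizer L z, c * u * c⁻¹ * u⁻¹ ∈ A) ∧
      ∀ u ∈ stabilizer L x ⊓ stabilizer L y ⊓ stabilizer L z,
        e x y u * e y z u = e x z u * (c * u * c⁻¹ * u⁻¹)) :
    ∃ v : Ω → L → L, (∀ x, ∀ u ∈ stabilizer L x, v x u ∈ A) ∧
      (∀ x, ∀ u ∈ stabilizer L x, ∀ w ∈ stabilizer L x, v x (u * w) = v x u * v x w) ∧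
      (∀ x, ∀ u ∈ A, v x u = 1) ∧
      (∀ (l : L) x, ∀ u ∈ stabilizer L x, v (l • x) (l * u * l⁻¹) = v x u) ∧
      ∀ x y, ∃ c : L, (∀ u ∈ stabilizer L x ⊓ stabilizer L y, c * u * c⁻¹ * u⁻¹ ∈ A) ∧
        ∀ u ∈ stabilizer L x ⊓ stabilizer L y, e x y u * v x u = v y u * (c * u * c⁻¹ * u⁻¹) := by
  obtain ⟨c, hc1, hc2, hc3⟩ := exists_correct_of hΩ hA hAst hvan e he heq hcoc
  obtain ⟨v, hv1, hv2, hv3, hv4, hv5⟩ := H446.Lim.hom_acyclic hΩ A hA hAp hAst
    (fun x y u => e x y u * kc (c x y) u)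
    (fun x y u hu => A.mul_mem (he x y u hu) (hc1 x y u hu))
    (fun x y u hu w hw => by
      show e x y (u * w) * kc (c x y) (u * w) = e x y u * kc (c x y) u * (e x y w * kc (c x y) w)
      rw [hmul x y u hu w hw, H119.Lim.kc_mul_right (hA (hc1 x y w hw))]
      have h1 := Subgroup.mem_center_iff.mp (hA (he x y w hw)) (kc (c x y) u)
      calc e x y u * e x y w * (kc (c x y) u * kc (c x y) w)
          = e x y u * (e x y w * kc (c x y) u) * kc (c x y) w := by group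
        _ = e x y u * (kc (c x y) u * e x y w) * kc (c x y) w := by rw [h1]
        _ = e x y u * kc (c x y) u * (e x y w * kc (c x y) w) := by group)
    (fun x y u hu => by
      show e x y u * kc (c x y) u = 1
      rw [heA x y u hu, H119.Lim.kc_eq_one.mpr (Subgroup.mem_center_iff.mp (hA hu) (c x y)), one_mul])
    (fun l x y u hu => by
      show e (l • x) (l • y) (l * u * l⁻¹) * kc (c (l • x) (l • y)) (l * u * l⁻¹) = e x y u * kc (c x y) u
      rw [heq l x y u hu]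
      exact congrArg _ (hc2 l x y u hu))
    (fun x y z u hu => hc3 x y z u hu)
  refine ⟨v, hv1, hv2, hv3, hv4, fun x y => ⟨(c x y)⁻¹, fun u hu => ?_, fun u hu => ?_⟩⟩
  · have := A.inv_mem (hc1 x y u hu)
    have h2 := kc_inv_left (hA (hc1 x y u hu))
    show kc (c x y)⁻¹ u ∈ A
    rw [h2]; exact this
  · show e x y u * v x u = v y u * kc (c x y)⁻¹ u
    have h1 : e x y u * kc (c x y) u * v x u = v y u := hv5 x y u hu
    rw [kc_inv_left (hA (hc1 x y u hu)), ← h1]
    have h2 := Subgroup.mem_center_iff.mp (hA (hc1 x y u hu)) (v x u)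
    calc e x y u * v x u = e x y u * (v x u * kc (c x y) u) * (kc (c x y) u)⁻¹ := by group
      _ = e x y u * (kc (c x y) u * v x u) * (kc (c x y) u)⁻¹ := by rw [show v x u * kc (c x y) u = kc (c x y) u * v x u from h2]
      _ = e x y u * kc (c x y) u * v x u * (kc (c x y) u)⁻¹ := by group

end

end Cfsg.Agent.H425.Lim
end
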