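import Cfsg.Agent.H425.Lim.Pull
set_option linter.all false

/-!
# Quotients of coefficient systems, the centre functor modulo a central subgroup (helper425, for S5242)
-/

set_option autoImplicit false

namespace Cfsg.Agent.H425.Lim

open MulAction Cfsg.Agent.H539.Lim

universe u v w

/-- quotient of a coefficient system -/
def quo {G : Type u} [Group G] (C : Coef.{u, w} G) (S : ∀ P : Subgroup G, AddSubgroup (C.M P))
    (hS : ∀ (g : G) (P Q : Subgroup G) (h : ∀ u ∈ P, g * u * g⁻¹ ∈ Q), ∀ m ∈ S Q, C.τ g P Q h m ∈ S P) :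
    Coef.{u, w} G where
  M P := C.M P ⧸ S P
  acg P := inferInstance
  τ g P Q h := QuotientAddGroup.map (S Q) (S P) (C.τ g P Q h) (fun m hm => hS g P Q h m hm)
  τ_comp g h P Q R h1 h2 h3 m := by
    induction m using QuotientAddGroup.induction_on with
    | H m => exact congrArg (QuotientAddGroup.mk' (S P)) (C.τ_comp g h P Q R h1 h2 h3 m)
  τ_inner P u hu h m := by
    induction m using QuotientAddGroup.induction_on with
    | H m => exact congrArg (QuotientAddGroup.mk' (S P)) (C.τ_inner P u hu h m)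

/-- the projection -/
def quoHom {G : Type u} [Group G] (C : Coef.{u, w} G) (S : ∀ P : Subgroup G, AddSubgroup (C.M P))
    (hS : ∀ (g : G) (P Q : Subgroup G) (h : ∀ u ∈ P, g * u * g⁻¹ ∈ Q), ∀ m ∈ S Q, C.τ g P Q h m ∈ S P)
    (V : Set (Subgroup G)) : Coef.HomOn C (quo C S hS) V where
  f P := QuotientAddGroup.mk' (S P)
  nat _ _ _ _ _ _ _ := rfl

/-- the element of `G` of an element of `Z(P)` -/
def zval {p : ℕ} {G : Type u} [Group G] {P : Subgroup G} (m : (Coef.Z p G).M P) : G :=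
  ((Additive.toMul (show Additive ↥(zc p P) from m) : ↥(zc p P)) : G)

/-- an element of `Z(P)` from an element of `zc` -/
def zmk {p : ℕ} {G : Type u} [Group G] {P : Subgroup G} (z : G) (hz : z ∈ zc p P) : (Coef.Z p G).M P :=
  show Additive ↥(zc p P) from Additive.ofMul ⟨z, hz⟩

theorem zval_zmk {p : ℕ} {G : Type u} [Group G] {P : Subgroup G} (z : G) (hz : z ∈ zc p P) :
    zval (zmk z hz) = z := rfl

theorem zval_mem {p : ℕ} {G : Type u} [Group G] {P : Subgroup G} (m : (Coef.Z p G).M P) : zval m ∈ zc p P :=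
  (Additive.toMul (show Additive ↥(zc p P) from m) : ↥(zc p P)).2

theorem zval_inj {p : ℕ} {G : Type u} [Group G] {P : Subgroup G} {m m' : (Coef.Z p G).M P} (h : zval m = zval m') :
    m = m' :=
  congrArg Additive.ofMul (Subtype.ext h : (Additive.toMul (show Additive ↥(zc p P) from m) : ↥(zc p P)) =
    Additive.toMul (show Additive ↥(zc p P) from m'))

theorem zval_add {p : ℕ} {G : Type u} [Group G] {P : Subgroup G} (m m' : (Coef.Z p G).M P) :
    zval (m + m') = zval m * zval m' := rfl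

theorem zval_zero {p : ℕ} {G : Type u} [Group G] {P : Subgroup G} : zval (0 : (Coef.Z p G).M P) = 1 := rfl

theorem zval_neg {p : ℕ} {G : Type u} [Group G] {P : Subgroup G} (m : (Coef.Z p G).M P) :
    zval (-m) = (zval m)⁻¹ := rfl

theorem zval_tau {p : ℕ} {G : Type u} [Group G] {g : G} {P Q : Subgroup G} (h : ∀ u ∈ P, g * u * g⁻¹ ∈ Q)
    (hP : Centric p P ∧ IsPGroup p P) (m : (Coef.Z p G).M Q) :
    zval ((Coef.Z p G).τ g P Q h m) = g⁻¹ * zval m * g := by
  classical
  show ((if hP : Centric p P ∧ IsPGroup p P then (⟨g⁻¹ * zval m * g, zc_conj p h hP _ (zval_mem m)⟩ : ↥(zc p P)) else 1 :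
    ↥(zc p P)) : G) = _
  rw [dif_pos hP]

theorem zval_tau_one {p : ℕ} {G : Type u} [Group G] {g : G} {P Q : Subgroup G} (h : ∀ u ∈ P, g * u * g⁻¹ ∈ Q)
    (hP : ¬ (Centric p P ∧ IsPGroup p P)) (m : (Coef.Z p G).M Q) :
    zval ((Coef.Z p G).τ g P Q h m) = 1 := by
  classical
  show ((if hP : Centric p P ∧ IsPGroup p P then (⟨g⁻¹ * zval m * g, zc_conj p h hP _ (zval_mem m)⟩ : ↥(zc p P)) else 1 :
    ↥(zc p P)) : G) = _
  rw [dif_neg hP]; rfl

/-- the elements of `Z(P)` lying in `A` -/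
def zcA (p : ℕ) {G : Type u} [Group G] (A P : Subgroup G) : AddSubgroup ((Coef.Z p G).M P) where
  carrier := {m | zval m ∈ A}
  zero_mem' := A.one_mem
  add_mem' := fun {_ _} ha hb => A.mul_mem ha hb
  neg_mem' := fun {_} ha => A.inv_mem ha

theorem mem_zcA {p : ℕ} {G : Type u} [Group G] {A P : Subgroup G} {m : (Coef.Z p G).M P} :
    m ∈ zcA p A P ↔ zval m ∈ A := Iff.rfl

theorem zcA_tau (p : ℕ) {G : Type u} [Group G] {A : Subgroup G} (hA : A ≤ Subgroup.center G) (g : G)
    (P Q : Subgroup G) (h : ∀ u ∈ P, g * u * g⁻¹ ∈ Q) (m : (Coef.Z p G).M Q) (hm : m ∈ zcA p A Q) :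
    (Coef.Z p G).τ g P Q h m ∈ zcA p A P := by
  rw [mem_zcA] at hm ⊢
  by_cases hP : Centric p P ∧ IsPGroup p P
  · rw [zval_tau h hP, Subgroup.mem_center_iff.mp (hA hm) g⁻¹]
    simpa using hm
  · rw [zval_tau_one h hP]
    exact A.one_mem

/-- the system `P ↦ Z(P) / A` -/
noncomputable def NS (p : ℕ) {G : Type u} [Group G] (A : Subgroup G) (hA : A ≤ Subgroup.center G) : Coef.{u, u} G :=
  quo (Coef.Z p G) (zcA p A) (zcA_tau p hA)

/-- `Z → N` -/
noncomputable def homZN (p : ℕ) {G : Type u} [Group G] (A : Subgroup G) (hA : A ≤ Subgroup.center G)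
    (V : Set (Subgroup G)) : Coef.HomOn (Coef.Z p G) (NS p A hA) V := quoHom _ _ _ V

theorem homZN_surj (p : ℕ) {G : Type u} [Group G] (A : Subgroup G) (hA : A ≤ Subgroup.center G)
    (V : Set (Subgroup G)) (P : Subgroup G) : Function.Surjective ((homZN p A hA V).f P) :=
  QuotientAddGroup.mk'_surjective _

theorem homZN_eq_zero (p : ℕ) {G : Type u} [Group G] (A : Subgroup G) (hA : A ≤ Subgroup.center G)
    (V : Set (Subgroup G)) (P : Subgroup G) (m : (Coef.Z p G).M P) :
    (homZN p A hA V).f P m = 0 ↔ zval m ∈ A :=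
  QuotientAddGroup.eq_zero_iff _

/-- the centric `p`-subgroups containing `A` -/
def CC (p : ℕ) {G : Type u} [Group G] (A : Subgroup G) : Set (Subgroup G) :=
  {P | A ≤ P ∧ Centric p P ∧ IsPGroup p P}

theorem mem_zc_of_mem {p : ℕ} {G : Type u} [Group G] {A : Subgroup G} (hA : A ≤ Subgroup.center G) {P : Subgroup G}
    (hP : P ∈ CC p A) {a : G} (ha : a ∈ A) : a ∈ zc p P :=
  ⟨hP.1 ha, fun u _ => (Subgroup.mem_center_iff.mp (hA ha) u).symm, Or.inr hP.2⟩

/-- the additive group of the central subgroup `A` -/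
def AA {G : Type u} [Group G] (A : Subgroup G) (_hA : A ≤ Subgroup.center G) : Type u := Additive ↥A

instance instAA {G : Type u} [Group G] (A : Subgroup G) (hA : A ≤ Subgroup.center G) : AddCommGroup (AA A hA) :=
  { (inferInstance : AddGroup (Additive ↥A)) with
    add_comm := fun a b => congrArg Additive.ofMul (Subtype.ext
      (Subgroup.mem_center_iff.mp (hA (Additive.toMul b : ↥A).2) ((Additive.toMul a : ↥A) : G))) }

/-- the element of `G` of an element of `A` -/
def aval {G : Type u} [Group G] {A : Subgroup G} {hA : A ≤ Subgroup.center G} (m : AA A hA) : G :=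
  ((Additive.toMul (show Additive ↥A from m) : ↥A) : G)

theorem aval_mem {G : Type u} [Group G] {A : Subgroup G} {hA : A ≤ Subgroup.center G} (m : AA A hA) : aval m ∈ A :=
  (Additive.toMul (show Additive ↥A from m) : ↥A).2

def amk {G : Type u} [Group G] {A : Subgroup G} {hA : A ≤ Subgroup.center G} (a : G) (ha : a ∈ A) : AA A hA :=
  show Additive ↥A from Additive.ofMul ⟨a, ha⟩

theorem aval_amk {G : Type u} [Group G] {A : Subgroup G} {hA : A ≤ Subgroup.center G} (a : G) (ha : a ∈ A) :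
    aval (amk a ha : AA A hA) = a := rfl

theorem aval_add {G : Type u} [Group G] {A : Subgroup G} {hA : A ≤ Subgroup.center G} (m m' : AA A hA) :
    aval (m + m') = aval m * aval m' := rfl

theorem aval_inj {G : Type u} [Group G] {A : Subgroup G} {hA : A ≤ Subgroup.center G} {m m' : AA A hA}
    (h : aval m = aval m') : m = m' :=
  congrArg Additive.ofMul (Subtype.ext h : (Additive.toMul (show Additive ↥A from m) : ↥A) =
    Additive.toMul (show Additive ↥A from m'))

open Classical in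
/-- `A → Z` on the centric subgroups containing `A` -/
noncomputable def homAZ (p : ℕ) {G : Type u} [Group G] (A : Subgroup G) (hA : A ≤ Subgroup.center G)
    {V : Set (Subgroup G)} (hV : V ⊆ CC p A) : Coef.HomOn (cst G (AA A hA)) (Coef.Z p G) V where
  f P := if hP : P ∈ CC p A then
    { toFun := fun a : AA A hA => zmk (aval a) (mem_zc_of_mem hA hP (aval_mem a))
      map_zero' := rfl
      map_add' := fun _ _ => rfl } else 0
  nat g P Q h hP hQ m := by
    rw [dif_pos (hV hP), dif_pos (hV hQ)]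
    apply zval_inj
    refine Eq.trans ?_ (zval_tau h (hV hP).2 _).symm
    show aval (hA := hA) m = g⁻¹ * aval (hA := hA) m * g
    rw [Subgroup.mem_center_iff.mp (hA (aval_mem (hA := hA) m)) g⁻¹]; simp

theorem homAZ_val (p : ℕ) {G : Type u} [Group G] (A : Subgroup G) (hA : A ≤ Subgroup.center G)
    {V : Set (Subgroup G)} (hV : V ⊆ CC p A) {P : Subgroup G} (hP : P ∈ V) (m : AA A hA) :
    zval ((homAZ p A hA hV).f P m) = aval m := by
  classical
  show zval ((if hP : P ∈ CC p A then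
    { toFun := fun a : AA A hA => (zmk (aval a) (mem_zc_of_mem hA hP (aval_mem a)) : (Coef.Z p G).M P)
      map_zero' := rfl
      map_add' := fun _ _ => rfl } else (0 : AA A hA →+ (Coef.Z p G).M P)) m) = _
  rw [dif_pos (hV hP)]; rfl

theorem homAZ_inj (p : ℕ) {G : Type u} [Group G] (A : Subgroup G) (hA : A ≤ Subgroup.center G)
    {V : Set (Subgroup G)} (hV : V ⊆ CC p A) {P : Subgroup G} (hP : P ∈ V) :
    Function.Injective ((homAZ p A hA hV).f P) := by
  intro a b h
  exact aval_inj (hA := hA) ((homAZ_val p A hA hV hP a).symm.trans ((congrArg zval h).trans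
    (homAZ_val p A hA hV hP b)))

theorem homAZ_exact (p : ℕ) {G : Type u} [Group G] (A : Subgroup G) (hA : A ≤ Subgroup.center G)
    {V : Set (Subgroup G)} (hV : V ⊆ CC p A) {P : Subgroup G} (hP : P ∈ V) (m : (Coef.Z p G).M P) :
    (homZN p A hA V).f P m = 0 ↔ ∃ m' : AA A hA, (homAZ p A hA hV).f P m' = m := by
  rw [homZN_eq_zero]
  constructor
  · intro h
    refine ⟨amk (zval m) h, zval_inj ?_⟩
    rw [homAZ_val p A hA hV hP]; rfl
  · rintro ⟨m', rfl⟩
    rw [homAZ_val p A hA hV hP]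
    exact aval_mem m'

/-! ### the system `Z(P/A)` -/

/-- the system `P ↦ Z(P/A)` -/
noncomputable def ZG (p : ℕ) {G : Type u} [Group G] (A : Subgroup G) [A.Normal] : Coef.{u, u} G :=
  pull (QuotientGroup.mk' A) (Coef.Z p (G ⧸ A))

theorem UU_sub_CC (p : ℕ) {G : Type u} [Group G] (A : Subgroup G) : UU p A ⊆ CC p A := by
  rintro P ⟨⟨h1, h2⟩, h3⟩
  refine ⟨h1, fun u hu hk => ?_, h2⟩
  by_contra h4
  refine h3 ⟨u, h4, hk, fun v hv => ?_⟩
  rw [hu v hv]
  simp

/-- a subgroup in `UU` is centric modulo `A` -/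
theorem UU_centric {p : ℕ} [Fact p.Prime] {G : Type u} [Group G] {A : Subgroup G} [A.Normal] (hAp : IsPGroup p A)
    {P : Subgroup G} (hP : P ∈ UU p A) :
    Centric p (P.map (QuotientGroup.mk' A)) ∧ IsPGroup p (P.map (QuotientGroup.mk' A)) := by
  refine ⟨?_, hP.1.2.map _⟩
  intro u hu hk
  obtain ⟨w, rfl⟩ := QuotientGroup.mk'_surjective A u
  obtain ⟨k, hk⟩ := hk
  have h1 : w ^ p ^ k ∈ A := by
    rw [← map_pow] at hk
    exact (QuotientGroup.eq_one_iff _).mp hk
  obtain ⟨j, hj⟩ := hAp ⟨_, h1⟩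
  have h2 : w ^ p ^ (k + j) = 1 := by
    have := congrArg Subtype.val hj
    rw [pow_add, pow_mul]
    exact this
  by_contra h3
  apply hP.2
  refine ⟨w, fun h4 => h3 (Subgroup.mem_map_of_mem _ h4), ⟨k + j, h2⟩, fun v hv => ?_⟩
  have h5 := hu _ (Subgroup.mem_map_of_mem (QuotientGroup.mk' A) hv)
  rw [← QuotientGroup.eq_one_iff]
  show (QuotientGroup.mk' A) (w * v * w⁻¹ * v⁻¹) = 1
  rw [map_mul, map_mul, map_mul, map_inv, map_inv, h5]
  simp

end Cfsg.Agent.H425.Lim
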